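import Cfsg.Agent.Lib.RankOneCI.Basic

/-!
# An involution with a centraliser outside `N(S)`

All involutions of `S` are central, `N(S)` is transitive on them, and the stabiliser of `a` has two orbits `X`, `X a` on
the others.
-/

set_option autoImplicit false
set_option linter.style.haveILetI false
set_option linter.unusedSectionVars false
set_option linter.dupNamespace false

namespace Cfsg.Agent.RankOneCI

open Subgroup Cfsg.Agent Cfsg.Agent.CI

universe u

variable {G : Type u} [Group G] [Finite G]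

/-- The configuration. -/
structure Bad (S : Sylow 2 G) (a : G) : Prop where
  ri : RI G
  simple : IsSimpleGroup G
  nonab : ¬ IsMulCommutative G
  mem : a ∈ (S : Subgroup G)
  invol : orderOf a = 2
  cen : Cen S a
  out : ¬ centralizer ({a} : Set G) ≤ normalizer ((S : Subgroup G) : Set G)

theorem commute_of_invol {x y : G} (hx : x * x = 1) (hy : y * y = 1) (hxy : x * y * (x * y) = 1) : Commute x y := by
  calc x * y = x * (x * y * (x * y)) * y := by rw [hxy, mul_one]
    _ = (x * x) * (y * x) * (y * y) := by group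
    _ = y * x := by rw [hx, hy, one_mul, mul_one]

theorem mul_self_of_order {x : G} (h : orderOf x = 2) : x * x = 1 := by rw [← pow_two, ← h, pow_orderOf_eq_one]

theorem order_of_mul_self {x : G} (h : x * x = 1) (h1 : x ≠ 1) : orderOf x = 2 :=
  orderOf_eq_prime (by rw [pow_two, h]) h1

theorem ne_one_of_order {x : G} (h : orderOf x = 2) : x ≠ 1 := fun e => by
  rw [e, orderOf_one] at h; exact absurd h (by decide)

namespace Bad

variable {S : Sylow 2 G} {a : G} (c : Bad S a)
include c

theorem twoCen : TwoCen a := ⟨S, c.mem, c.cen⟩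

/-- Products with `a`. -/
theorem mul_a {x : G} (hx : x ∈ (S : Subgroup G)) (hx2 : orderOf x = 2) (hne : x ≠ a) :
    x * a ∈ (S : Subgroup G) ∧ orderOf (x * a) = 2 ∧ x * a ≠ a := by
  have ha := mul_self_of_order c.invol
  have hxa : Commute x a := c.cen x hx
  refine ⟨mul_mem hx c.mem, order_of_mul_self ?_ fun e => hne ?_, fun e => ne_one_of_order hx2 ?_⟩
  · rw [mul_assoc, ← mul_assoc a, ← hxa.eq, mul_assoc x a a, ha, mul_one, mul_self_of_order hx2]
  · rw [eq_inv_of_mul_eq_one_left e, inv_eq_of_mul_eq_one_right ha]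
  · exact mul_right_cancel (e.trans (one_mul a).symm)

/-- An element centralising `a` that moves an involution of `S` other than `a` into `S` normalises `S`. -/
theorem norm_of {x g : G} (hx : x ∈ (S : Subgroup G)) (hx2 : orderOf x = 2) (hne : x ≠ a)
    (hg : g ∈ centralizer ({a} : Set G)) (hgx : g * x * g⁻¹ ∈ (S : Subgroup G)) :
    g ∈ normalizer ((S : Subgroup G) : Set G) := by
  have hga : g * a * g⁻¹ = a := by rw [mem_centralizer_singleton_iff.1 hg, mul_inv_cancel_right]
  refine Sylow.smul_eq_iff_mem_normalizer.1 (c.ri.eq (x := g * x * g⁻¹) (a := a) ?_ c.mem c.invol c.twoCen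
    (sylow_mem_smul.2 (by rw [show g⁻¹ * (g * x * g⁻¹) * g = x by group]; exact hx)) hgx
    (by rw [orderOf_conj', hx2]) fun e => hne ?_)
  · rw [← hga]; exact (cen_smul g c.mem c.cen).1
  · calc x = g⁻¹ * (g * x * g⁻¹) * g := by group
      _ = g⁻¹ * (g * a * g⁻¹) * g := by rw [e, hga]
      _ = a := by group

theorem exists_other_cen : ∃ b ∈ (S : Subgroup G), orderOf b = 2 ∧ b ≠ a ∧ Cen S b := by
  haveI := c.simple
  obtain ⟨n, hn, hne⟩ := c.ri.exists_moved c.nonab c.mem c.invol c.cen
  have hS : n * a * n⁻¹ ∈ (S : Subgroup G) := (mem_normalizer_iff.1 hn a).1 c.mem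
  refine ⟨_, hS, by rw [orderOf_conj', c.invol], hne, ?_⟩
  exact c.ri.cen hS (by rw [orderOf_conj', c.invol]) (c.twoCen.conj n)

/-- An involution of a second Sylow subgroup is conjugate to `b` or `b a` under `C(a)`. -/
theorem conj_other {b y : G} {T : Sylow 2 G} (hb : b ∈ (S : Subgroup G)) (hb2 : orderOf b = 2) (hba : b ≠ a)
    (hbc : Cen S b) (hTS : T ≠ S) (haT : a ∈ (T : Subgroup G)) (hy : y ∈ (T : Subgroup G)) (hy2 : orderOf y = 2)
    (hya : y ≠ a) :
    ∃ g ∈ centralizer ({a} : Set G), y = g * b * g⁻¹ ∨ y = g * (b * a) * g⁻¹ := by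
  have ha := mul_self_of_order c.invol
  have hbb := mul_self_of_order hb2
  have hyy := mul_self_of_order hy2
  have hab : Commute b a := c.cen b hb
  have haT' : Cen T a := c.ri.cen haT c.invol c.twoCen
  have hay : Commute y a := haT' y hy
  obtain ⟨w, hw⟩ : ∃ w, w = b * y := ⟨_, rfl⟩
  have hwa : w ∈ centralizer ({a} : Set G) := mem_centralizer_singleton_iff.2 (hw ▸ (hab.mul_left hay).eq)
  have hinv : b * w * b⁻¹ = w⁻¹ := by
    rw [hw, mul_inv_rev, inv_eq_of_mul_eq_one_right hbb, inv_eq_of_mul_eq_one_right hyy, ← mul_assoc b b y, hbb, one_mul]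
  have hinvk : ∀ k : ℕ, b * w ^ k * b⁻¹ = (w ^ k)⁻¹ := fun k => by rw [← conj_pow, hinv, inv_pow]
  have hzb : ∀ k : ℕ, w ^ k * b * (w ^ k)⁻¹ = w ^ (2 * k) * b := fun k => by
    calc w ^ k * b * (w ^ k)⁻¹ = w ^ k * (b * w ^ k * b⁻¹)⁻¹ * b := by group
      _ = w ^ (2 * k) * b := by rw [hinvk, inv_inv, ← pow_add, two_mul]
  rcases Nat.even_or_odd (orderOf w) with ⟨m, hm⟩ | ⟨m, hm⟩
  · -- `w ^ m` is `a`
    have hm0 : 0 < m := by have := orderOf_pos w; omega
    obtain ⟨u, hu⟩ : ∃ u, u = w ^ m := ⟨_, rfl⟩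
    have hu2 : orderOf u = 2 := by
      refine order_of_mul_self ?_ ?_
      · rw [hu, ← pow_add, ← hm, pow_orderOf_eq_one]
      · rw [hu]
        exact pow_ne_one_of_lt_orderOf hm0.ne' (by omega)
    have huinv : u⁻¹ = u := inv_eq_of_mul_eq_one_right (mul_self_of_order hu2)
    have hub : Commute b u := by
      have h1 := hinvk m
      rw [← hu, huinv, mul_inv_eq_iff_eq_mul] at h1
      exact h1
    have huy : Commute y u := by
      have h1 : y = b * w := by rw [hw, ← mul_assoc, hbb, one_mul]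
      rw [h1]
      exact hub.mul_left (hu ▸ Commute.self_pow w m)
    have hua : Commute u a := hu ▸ (show Commute w a from mem_centralizer_singleton_iff.1 hwa).pow_left m
    have huea : u = a := by
      by_contra hne
      have key : ∀ (R : Sylow 2 G) (x : G), x ∈ (R : Subgroup G) → a ∈ (R : Subgroup G) → orderOf x = 2 → x ≠ a →
          Commute x u → u ∈ (R : Subgroup G) := by
        intro R x hxR haR hx hxa hxu
        have hxa' : Commute x a := (c.ri.cen haR c.invol c.twoCen) x hxR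
        have hgen : IsPGroup 2 (closure ({x, a, u} : Set G)) := by
          have hcm : ∀ p ∈ ({x, a, u} : Set G), ∀ q ∈ ({x, a, u} : Set G), p * q = q * p := by
            rintro p (rfl | rfl | rfl) q (rfl | rfl | rfl)
            exacts [rfl, hxa'.eq, hxu.eq, hxa'.eq.symm, rfl, hua.eq.symm, hxu.eq.symm, hua.eq, rfl]
          have hA := Subgroup.isMulCommutative_closure hcm
          rintro ⟨p, hp⟩
          refine ⟨1, Subtype.ext ?_⟩
          show p ^ (2 ^ 1) = 1
          rw [pow_one]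
          induction hp using Subgroup.closure_induction with
          | mem q hq =>
            rcases hq with rfl | rfl | rfl <;> rw [pow_two]
            exacts [mul_self_of_order hx, ha, mul_self_of_order hu2]
          | one => exact one_pow 2
          | mul p q hp hq ip iq =>
            have hpq : Commute p q := congrArg Subtype.val (hA.is_comm.comm ⟨p, hp⟩ ⟨q, hq⟩)
            rw [hpq.mul_pow, ip, iq, one_mul]
          | inv p _ ip => rw [inv_pow, ip, inv_one]
        obtain ⟨Q, hQ⟩ := hgen.exists_le_sylow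
        have hQR : Q = R := c.ri.eq (hQ (subset_closure (Or.inr (Or.inl rfl)))) haR c.invol c.twoCen
          (hQ (subset_closure (Or.inl rfl))) hxR hx hxa
        exact hQR ▸ hQ (subset_closure (Or.inr (Or.inr rfl)))
      have huS := key S b hb c.mem hb2 hba hub
      have huT := key T y hy haT hy2 hya huy
      exact hTS (c.ri.eq c.mem haT c.invol c.twoCen huS huT hu2 hne).symm
    rcases Nat.even_or_odd m with ⟨k, hk⟩ | ⟨k, hk⟩
    · -- a square root of `a` inverted by `b` would lie in `S`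
      exfalso
      have h1 : w ^ k * b * (w ^ k)⁻¹ = b * a := by
        rw [hzb, show 2 * k = m by omega, ← hu, huea, ← hab.eq]
      have hwN : w ^ k ∈ normalizer ((S : Subgroup G) : Set G) :=
        c.norm_of hb hb2 hba (pow_mem hwa k) (h1.symm ▸ mul_mem hb c.mem)
      have hp : IsPGroup 2 (zpowers (w ^ k)) := IsPGroup.iff_card.2 ⟨2, by
        rw [Nat.card_zpowers, orderOf_pow' w (by omega : k ≠ 0),
          Nat.gcd_eq_right (⟨4, by omega⟩ : k ∣ orderOf w), show orderOf w = 4 * k by omega,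
          Nat.mul_div_cancel _ (by omega : 0 < k)]
        norm_num⟩
      obtain ⟨R, hR⟩ := (S.2.to_sup_of_normal_left' hp (zpowers_le.2 hwN)).exists_le_sylow
      have hwS : w ^ k ∈ (S : Subgroup G) := by
        have := hR (mem_sup_right (mem_zpowers (w ^ k)))
        rwa [show (R : Subgroup G) = S from sylow_eq_of_le R.2 (le_sup_left.trans hR)] at this
      have h2 := hinvk k
      rw [← (hbc _ hwS).eq, mul_inv_cancel_right] at h2
      have h3 : w ^ (k + k) = 1 := by rw [pow_add, mul_eq_one_iff_eq_inv]; exact h2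
      rw [← hk, ← hu] at h3
      exact ne_one_of_order hu2 h3
    · -- `b` is conjugate to `y a`
      refine ⟨(w ^ (k + 1))⁻¹, inv_mem (pow_mem hwa _), Or.inr ?_⟩
      have h1 : w ^ (k + 1) * y * (w ^ (k + 1))⁻¹ = b * a := by
        calc w ^ (k + 1) * y * (w ^ (k + 1))⁻¹ = w ^ (k + 1) * (b * w) * (w ^ (k + 1))⁻¹ := by
              rw [hw, ← mul_assoc b b y, hbb, one_mul]
          _ = w ^ (k + 1) * b * (w ^ (k + 1))⁻¹ * w := by
              rw [mul_assoc (w ^ (k + 1)) (b * w), mul_assoc b w, ← ((Commute.self_pow w (k + 1)).inv_right).symm.eq]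
              group
          _ = w ^ (2 * (k + 1)) * b * w := by rw [hzb]
          _ = w ^ (2 * k + 1) * (w * b * w) := by rw [show 2 * (k + 1) = 2 * k + 1 + 1 by ring, pow_succ]; group
          _ = a * b := by
              rw [show w * b * w = b by rw [hw]; calc b * y * b * (b * y) = b * y * (b * b) * y := by group
                                                    _ = b := by rw [hbb, mul_one, mul_assoc, hyy, mul_one],
                ← hk, ← hu, huea]
          _ = b * a := hab.eq.symm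
      rw [inv_inv, ← h1]
      group
  · -- odd order: `b` is conjugate to `y`
    refine ⟨(w ^ (m + 1))⁻¹, inv_mem (pow_mem hwa _), Or.inl ?_⟩
    have h1 : w ^ (m + 1) * y * (w ^ (m + 1))⁻¹ = b := by
      calc w ^ (m + 1) * y * (w ^ (m + 1))⁻¹ = w ^ (m + 1) * (b * w) * (w ^ (m + 1))⁻¹ := by
            rw [hw, ← mul_assoc b b y, hbb, one_mul]
        _ = w ^ (m + 1) * b * (w ^ (m + 1))⁻¹ * w := by
            rw [mul_assoc (w ^ (m + 1)) (b * w), mul_assoc b w, ← ((Commute.self_pow w (m + 1)).inv_right).symm.eq]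
            group
        _ = w ^ (2 * (m + 1)) * b * w := by rw [hzb]
        _ = w ^ (2 * m + 1) * (w * b * w) := by rw [show 2 * (m + 1) = 2 * m + 1 + 1 by ring, pow_succ]; group
        _ = b := by
            rw [← hm, pow_orderOf_eq_one, one_mul, hw]
            calc b * y * b * (b * y) = b * y * (b * b) * y := by group
              _ = b := by rw [hbb, mul_one, mul_assoc, hyy, mul_one]
    rw [inv_inv, ← h1]
    group

/-- The orbits of the stabiliser. -/
theorem stab_orbits {b x : G} (hb : b ∈ (S : Subgroup G)) (hb2 : orderOf b = 2) (hba : b ≠ a) (hbc : Cen S b)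
    (hx : x ∈ (S : Subgroup G)) (hx2 : orderOf x = 2) (hxa : x ≠ a) :
    ∃ n ∈ normalizer ((S : Subgroup G) : Set G), n ∈ centralizer ({a} : Set G) ∧
      (x = n * b * n⁻¹ ∨ x = n * (b * a) * n⁻¹) := by
  obtain ⟨g, hg, hgn⟩ := SetLike.not_le_iff_exists.1 c.out
  have hga : g * a * g⁻¹ = a := by rw [mem_centralizer_singleton_iff.1 hg, mul_inv_cancel_right]
  obtain ⟨h1, -⟩ := cen_smul g c.mem c.cen
  rw [hga] at h1
  obtain ⟨d, hd, hyd⟩ := c.conj_other hb hb2 hba hbc (T := g • S)
    (fun e => hgn (Sylow.smul_eq_iff_mem_normalizer.1 e)) h1 (y := g * x * g⁻¹)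
    (sylow_mem_smul.2 (by rw [show g⁻¹ * (g * x * g⁻¹) * g = x by group]; exact hx))
    (by rw [orderOf_conj', hx2]) (fun e => hxa (mul_left_cancel (mul_right_cancel (e.trans hga.symm))))
  have hn : g⁻¹ * d ∈ centralizer ({a} : Set G) := mul_mem (inv_mem hg) hd
  have hx' : x = g⁻¹ * d * b * (g⁻¹ * d)⁻¹ ∨ x = g⁻¹ * d * (b * a) * (g⁻¹ * d)⁻¹ := by
    rcases hyd with e | e
    · exact Or.inl (by rw [show x = g⁻¹ * (g * x * g⁻¹) * g by group, e]; group)
    · exact Or.inr (by rw [show x = g⁻¹ * (g * x * g⁻¹) * g by group, e]; group)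
  refine ⟨_, ?_, hn, hx'⟩
  rcases hx' with e | e
  · exact c.norm_of hb hb2 hba hn (e ▸ hx)
  · obtain ⟨h1, h2, h3⟩ := c.mul_a hb hb2 hba
    exact c.norm_of h1 h2 h3 hn (e ▸ hx)

/-- All involutions of `S` are central. -/
theorem all_cen {x : G} (hx : x ∈ (S : Subgroup G)) (hx2 : orderOf x = 2) : Cen S x := by
  by_cases hxa : x = a
  · rw [hxa]; exact c.cen
  obtain ⟨b, hb, hb2, hba, hbc⟩ := c.exists_other_cen
  obtain ⟨n, hn, -, e⟩ := c.stab_orbits hb hb2 hba hbc hx hx2 hxa
  have key : ∀ z, Cen S z → Cen S (n * z * n⁻¹) := fun z hz s hs => by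
    have := (hz _ ((mem_normalizer_iff.1 (inv_mem hn) s).1 hs)).map (MulAut.conj n).toMonoidHom
    simpa [mul_assoc] using this
  rcases e with rfl | rfl
  · exact key b hbc
  · exact key _ fun s hs => (hbc s hs).mul_right (c.cen s hs)

omit c in
/-- Orbits under a group normalised by `S` and fixing `x` have odd size. -/
theorem odd_orbit {H : Subgroup G} {x : G} (hS : (S : Subgroup G) ≤ H) (hx : Cen S x) :
    Odd (Nat.card {y : G // ∃ n ∈ H, n * x * n⁻¹ = y}) := by
  let f : H ⧸ (centralizer ({x} : Set G)).subgroupOf H → {y : G // ∃ n ∈ H, n * x * n⁻¹ = y} :=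
    Quotient.lift (fun n : H => ⟨n * x * (n : G)⁻¹, n, n.2, rfl⟩) fun p q hpq => by
      have h1 := mem_centralizer_singleton_iff.1 (mem_subgroupOf.1 (QuotientGroup.leftRel_apply.1 hpq))
      refine Subtype.ext ?_
      have h2 : ((p⁻¹ * q : H) : G) = (p : G)⁻¹ * q := rfl
      rw [h2] at h1
      calc (p : G) * x * (p : G)⁻¹ = p * (x * ((p : G)⁻¹ * q)) * (q : G)⁻¹ := by group
        _ = p * ((p : G)⁻¹ * q * x) * (q : G)⁻¹ := by rw [h1]
        _ = q * x * (q : G)⁻¹ := by group
  have hf : Function.Bijective f := by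
    refine ⟨fun p q e => ?_, fun ⟨y, n, hn, e⟩ => ⟨QuotientGroup.mk ⟨n, hn⟩, Subtype.ext e⟩⟩
    obtain ⟨p, rfl⟩ := QuotientGroup.mk_surjective p
    obtain ⟨q, rfl⟩ := QuotientGroup.mk_surjective q
    have e' : (p : G) * x * (p : G)⁻¹ = q * x * (q : G)⁻¹ := congrArg Subtype.val e
    refine QuotientGroup.eq.2 (mem_subgroupOf.2 (mem_centralizer_singleton_iff.2 ?_))
    show (p : G)⁻¹ * q * x = x * ((p : G)⁻¹ * q)
    calc (p : G)⁻¹ * q * x = (p : G)⁻¹ * (q * x * (q : G)⁻¹) * q := by group
      _ = (p : G)⁻¹ * (p * x * (p : G)⁻¹) * q := by rw [e']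
      _ = x * ((p : G)⁻¹ * q) := by group
  rw [← Nat.card_congr (Equiv.ofBijective f hf)]
  refine Nat.not_even_iff_odd.1 fun he => S.not_dvd_index ((he.two_dvd).trans ?_)
  refine dvd_trans ?_ (Subgroup.relIndex_dvd_index_of_le (show (S : Subgroup G) ≤ H from hS) |>.trans dvd_rfl)
  exact Subgroup.relIndex_dvd_of_le_left H
    (fun s hs => mem_centralizer_singleton_iff.2 (hx s hs).eq : (S : Subgroup G) ≤ centralizer ({x} : Set G))

/-- `N(S)` is transitive on the involutions of `S`. -/
theorem conj_a {x : G} (hx : x ∈ (S : Subgroup G)) (hx2 : orderOf x = 2) :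
    ∃ n ∈ normalizer ((S : Subgroup G) : Set G), n * a * n⁻¹ = x := by
  haveI := c.simple
  set N := normalizer ((S : Subgroup G) : Set G) with hN
  by_cases hxa : x = a
  · exact ⟨1, one_mem _, by rw [hxa]; group⟩
  obtain ⟨m, hm, hma⟩ := c.ri.exists_moved c.nonab c.mem c.invol c.cen
  set b := m * a * m⁻¹ with hb
  have hbS : b ∈ (S : Subgroup G) := (mem_normalizer_iff.1 hm a).1 c.mem
  have hb2 : orderOf b = 2 := by rw [hb, orderOf_conj', c.invol]
  have hbc := c.all_cen hbS hb2
  -- the orbit of `a` meets both orbits of the stabiliser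
  suffices hba : ∃ n ∈ N, n * a * n⁻¹ = b * a by
    obtain ⟨n, hn, hna, e | e⟩ := c.stab_orbits hbS hb2 hma hbc hx hx2 hxa
    · exact ⟨n * m, mul_mem hn hm, by rw [e, hb]; group⟩
    · obtain ⟨p, hp, hpa⟩ := hba
      exact ⟨n * p, mul_mem hn hp, by rw [e, ← hpa]; group⟩
  by_contra hno
  have hX : ∀ y, (∃ n ∈ N, n * a * n⁻¹ = y) →
      y = a ∨ ∃ n ∈ N ⊓ centralizer ({a} : Set G), n * b * n⁻¹ = y := by
    rintro y ⟨n, hn, rfl⟩
    by_cases e : n * a * n⁻¹ = a
    · exact Or.inl e
    obtain ⟨p, hp, hpa, e' | e'⟩ := c.stab_orbits hbS hb2 hma hbc ((mem_normalizer_iff.1 hn a).1 c.mem)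
      (by rw [orderOf_conj', c.invol]) e
    · exact Or.inr ⟨p, ⟨hp, hpa⟩, e'.symm⟩
    · refine absurd ⟨p⁻¹ * n, mul_mem (inv_mem hp) hn, ?_⟩ hno
      calc p⁻¹ * n * a * (p⁻¹ * n)⁻¹ = p⁻¹ * (n * a * n⁻¹) * p := by group
        _ = b * a := by rw [e']; group
  classical
  have hY := odd_orbit (H := N) (x := a) le_normalizer c.cen
  have hSN : (S : Subgroup G) ≤ N ⊓ centralizer ({a} : Set G) :=
    le_inf le_normalizer fun s hs => mem_centralizer_singleton_iff.2 (c.cen s hs).eq
  have hXo := odd_orbit (H := N ⊓ centralizer ({a} : Set G)) (x := b) hSN hbc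
  have hfix : ∀ y, (∃ n ∈ N ⊓ centralizer ({a} : Set G), n * b * n⁻¹ = y) → y ≠ a := by
    rintro y ⟨n, hn, rfl⟩ e
    refine hma ?_
    have h1 := mem_centralizer_singleton_iff.1 hn.2
    calc b = n⁻¹ * (n * b * n⁻¹) * n := by group
      _ = a := by rw [e, mul_assoc, ← h1, inv_mul_cancel_left]
  let e : {y : G // ∃ n ∈ N, n * a * n⁻¹ = y} ≃
      Option {y : G // ∃ n ∈ N ⊓ centralizer ({a} : Set G), n * b * n⁻¹ = y} :=
    { toFun := fun y => if h : y.1 = a then none else some ⟨y.1, (hX _ y.2).resolve_left h⟩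
      invFun := fun o => o.elim ⟨a, 1, one_mem _, by group⟩ fun y => ⟨y.1, by
        obtain ⟨n, hn, e⟩ := y.2
        exact ⟨n * m, mul_mem hn.1 hm, by rw [← e, hb]; group⟩⟩
      left_inv := fun y => by
        by_cases h : y.1 = a
        · simp [h]; exact Subtype.ext h.symm
        · simp [h]
      right_inv := fun o => by
        rcases o with _ | y
        · simp
        · have h : y.1 ≠ a := hfix _ y.2
          simp [h] }
  have h1 := Nat.card_congr e
  rw [Finite.card_option] at h1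
  rw [h1, Nat.odd_add_one] at hY
  exact hY hXo

/-- The stabiliser is transitive on the cosets of `a`. -/
theorem stab_coset {x y : G} (hx : x ∈ (S : Subgroup G)) (hx2 : orderOf x = 2) (hxa : x ≠ a)
    (hy : y ∈ (S : Subgroup G)) (hy2 : orderOf y = 2) (hya : y ≠ a) :
    ∃ n ∈ normalizer ((S : Subgroup G) : Set G), n ∈ centralizer ({a} : Set G) ∧
      (y = n * x * n⁻¹ ∨ y = n * x * n⁻¹ * a) := by
  obtain ⟨n, hn, hna, e | e⟩ := c.stab_orbits hx hx2 hxa (c.all_cen hx hx2) hy hy2 hya
  · exact ⟨n, hn, hna, Or.inl e⟩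
  · refine ⟨n, hn, hna, Or.inr ?_⟩
    rw [e, mul_assoc (n * x) n⁻¹ a, ← (show Commute n a from mem_centralizer_singleton_iff.1 hna).inv_left.eq.symm]
    group

end Bad

end Cfsg.Agent.RankOneCI
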