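import Cfsg.Agent.Lib.CI.Basic
import Cfsg.Prelude.Def_CaseTheorems

/-!
# Central intersections of 2-rank at most one

`RI G`: two distinct Sylow 2-subgroups sharing a 2-central involution share only that involution. Then the 2-central
involutions of `S` are central in `S`, and if the centraliser of such an involution `a` does not normalise `S`, every
involution of `S` is central and `N(S)` is transitive on them.
-/

set_option autoImplicit false
set_option linter.style.haveILetI false
set_option linter.unusedSectionVars false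
set_option linter.dupNamespace false

namespace Cfsg.Agent.RankOneCI

open Subgroup Cfsg.Agent Cfsg.Agent.CI

universe u

variable {G : Type u} [Group G] [Finite G]

/-- `x` is central in some Sylow 2-subgroup. -/
def TwoCen (x : G) : Prop := ∃ U : Sylow 2 G, x ∈ (U : Subgroup G) ∧ Cen U x

/-- A 2-central involution in two Sylow 2-subgroups is the only involution in both. -/
def RI (G : Type u) [Group G] [Finite G] : Prop :=
  ∀ S T : Sylow 2 G, S ≠ T → ∀ z ∈ (S : Subgroup G) ⊓ (T : Subgroup G), orderOf z = 2 → TwoCen z →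
    ∀ x ∈ (S : Subgroup G) ⊓ (T : Subgroup G), orderOf x = 2 → x = z

theorem of_template
    (h : ∀ S T : Sylow 2 G, S ≠ T →
      ((S : Subgroup G) ⊓ (T : Subgroup G) = ⊥ ∨
        ∃ z ∈ (S : Subgroup G) ⊓ (T : Subgroup G), orderOf z = 2 ∧
          ∃ U : Sylow 2 G, z ∈ (Subgroup.center ↥(U : Subgroup G)).map (U : Subgroup G).subtype) →
      Cfsg.PRankLE 2 1 ↥((S : Subgroup G) ⊓ (T : Subgroup G))) : RI G := by
  intro S T hne z hz hz2 hzc x hx hx2
  set D := (S : Subgroup G) ⊓ (T : Subgroup G) with hD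
  have hrk : Cfsg.PRankLE 2 1 D := h S T hne (Or.inr ⟨z, hz, hz2, by
    obtain ⟨U, hU, hcU⟩ := hzc
    exact ⟨U, ⟨z, hU⟩, Subgroup.mem_center_iff.2 fun s => Subtype.ext (hcU s s.2).eq, rfl⟩⟩)
  have hD2 : IsPGroup 2 D := S.2.to_le inf_le_left
  haveI : Fact (Nat.Prime 2) := ⟨Nat.prime_two⟩
  haveI : Nontrivial D := ⟨⟨⟨z, hz⟩, 1, fun e => by
    rw [show z = 1 from congrArg Subtype.val e, orderOf_one] at hz2
    exact absurd hz2 (by decide)⟩⟩
  haveI := hD2.center_nontrivial
  obtain ⟨⟨c, hc⟩, hc2⟩ := exists_prime_orderOf_dvd_card' (G := Subgroup.center D) 2 (by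
    obtain ⟨k, hk⟩ := IsPGroup.iff_card.1 (hD2.to_subgroup (Subgroup.center D))
    rw [hk]
    exact dvd_pow_self 2 fun h0 => by
      rw [h0, pow_zero] at hk
      exact Finite.one_lt_card.ne' hk)
  rw [← Subgroup.orderOf_coe] at hc2
  change orderOf c = 2 at hc2
  have key : ∀ y : D, orderOf y = 2 → y = c := by
    intro y hy
    by_contra hne'
    have hy2 : y * y = 1 := by rw [← pow_two, ← hy, pow_orderOf_eq_one]
    have hcc : c * c = 1 := by rw [← pow_two, ← hc2, pow_orderOf_eq_one]
    have hy1 : y ≠ 1 := fun e => by rw [e, orderOf_one] at hy; exact absurd hy (by decide)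
    have hc1 : c ≠ 1 := fun e => by rw [e, orderOf_one] at hc2; exact absurd hc2 (by decide)
    have hcy : c * y = y * c := (Subgroup.mem_center_iff.1 hc y).symm
    let A : Subgroup D := Subgroup.closure {c, y}
    have hgen : ∀ p ∈ ({c, y} : Set D), ∀ q ∈ ({c, y} : Set D), p * q = q * p := by
      rintro p (rfl | rfl) q (rfl | rfl)
      exacts [rfl, hcy, hcy.symm, rfl]
    have hA : IsMulCommutative A := Subgroup.isMulCommutative_closure hgen
    have h2 : ∀ a ∈ A, a ^ 2 = 1 := by
      intro a ha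
      induction ha using Subgroup.closure_induction with
      | mem w hw =>
        rcases hw with rfl | rfl <;> rw [pow_two]
        exacts [hcc, hy2]
      | one => exact one_pow 2
      | mul u v hu hv iu iv =>
        have huv : Commute u v := congrArg Subtype.val (hA.is_comm.comm ⟨u, hu⟩ ⟨v, hv⟩)
        rw [huv.mul_pow, iu, iv, one_mul]
      | inv u _ iu => rw [inv_pow, iu, inv_one]
    have h4 := hrk A hA h2
    classical
    haveI := Fintype.ofFinite A
    rw [Nat.card_eq_fintype_card, pow_one] at h4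
    have h3 : 3 ≤ Fintype.card A :=
      (Finset.card_eq_three.2 ⟨(1 : A), ⟨c, Subgroup.subset_closure (Or.inl rfl)⟩, ⟨y, Subgroup.subset_closure (Or.inr rfl)⟩,
        fun e => hc1 (congrArg Subtype.val e).symm, fun e => hy1 (congrArg Subtype.val e).symm,
        fun e => hne' (congrArg Subtype.val e).symm, rfl⟩).ge.trans (Finset.card_le_univ _)
    omega
  have h1 := key ⟨x, hx⟩ (by rw [← Subgroup.orderOf_coe]; exact hx2)
  have h2 := key ⟨z, hz⟩ (by rw [← Subgroup.orderOf_coe]; exact hz2)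
  exact congrArg Subtype.val (h1.trans h2.symm)

theorem orderOf_conj' (g x : G) : orderOf (g * x * g⁻¹) = orderOf x :=
  orderOf_injective (MulAut.conj g).toMonoidHom (MulAut.conj g).injective x

theorem cen_smul {S : Sylow 2 G} {x : G} (g : G) (hx : x ∈ (S : Subgroup G)) (hc : Cen S x) :
    g * x * g⁻¹ ∈ ((g • S : Sylow 2 G) : Subgroup G) ∧ Cen (g • S) (g * x * g⁻¹) := by
  refine ⟨sylow_mem_smul.2 (by rw [show g⁻¹ * (g * x * g⁻¹) * g = x by group]; exact hx), fun s hs => ?_⟩
  have := (hc _ (sylow_mem_smul.1 hs)).map (MulAut.conj g).toMonoidHom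
  simpa [mul_assoc] using this

theorem TwoCen.conj {x : G} (h : TwoCen x) (g : G) : TwoCen (g * x * g⁻¹) := by
  obtain ⟨U, hU, hc⟩ := h
  exact ⟨g • U, cen_smul g hU hc⟩

theorem exists_cen_invol {S : Sylow 2 G} (hS : (S : Subgroup G) ≠ ⊥) :
    ∃ z ∈ (S : Subgroup G), orderOf z = 2 ∧ Cen S z := by
  haveI : Fact (Nat.Prime 2) := ⟨Nat.prime_two⟩
  haveI : Nontrivial (S : Subgroup G) := (Subgroup.nontrivial_iff_ne_bot _).2 hS
  haveI := S.2.center_nontrivial
  obtain ⟨z, hz⟩ := exists_prime_orderOf_dvd_card' (G := Subgroup.center (S : Subgroup G)) 2 (by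
    obtain ⟨k, hk⟩ := IsPGroup.iff_card.1 (S.2.to_subgroup (Subgroup.center (S : Subgroup G)))
    rw [hk]
    exact dvd_pow_self 2 fun h0 => by
      rw [h0, pow_zero] at hk
      exact Finite.one_lt_card.ne' hk)
  rw [← Subgroup.orderOf_coe, ← Subgroup.orderOf_coe] at hz
  exact ⟨_, z.1.2, hz, fun s hs => congrArg Subtype.val (Subgroup.mem_center_iff.1 z.2 ⟨s, hs⟩)⟩

/-- `N(S)` controls fusion of the central elements. -/
theorem fusion_cen {S : Sylow 2 G} {x g : G} (hx : Cen S x) (hy : Cen S (g * x * g⁻¹)) :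
    ∃ n ∈ normalizer ((S : Subgroup G) : Set G), n * x * n⁻¹ = g * x * g⁻¹ := by
  set y := g * x * g⁻¹ with hydef
  have hS : (S : Subgroup G) ≤ centralizer ({y} : Set G) := fun s hs => mem_centralizer_singleton_iff.2 (hy s hs).eq
  have hS' : ((g • S : Sylow 2 G) : Subgroup G) ≤ centralizer ({y} : Set G) := fun s hs => by
    have := (hx _ (sylow_mem_smul.1 hs)).map (MulAut.conj g).toMonoidHom
    exact mem_centralizer_singleton_iff.2 (by simpa [hydef, mul_assoc] using this.eq)
  obtain ⟨c, hc, hcS⟩ := Small.exists_smul_sylow_ge_inside (S : Subgroup G) S.2 hS (g • S) hS'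
  refine ⟨c * g, Sylow.smul_eq_iff_mem_normalizer.1 ?_, ?_⟩
  · rw [mul_smul]; exact Sylow.ext (sylow_eq_of_le (c • (g • S)).2 hcS)
  · rw [show c * g * x * (c * g)⁻¹ = c * y * c⁻¹ by rw [hydef]; group,
      mem_centralizer_singleton_iff.1 hc, mul_inv_cancel_right]

variable (h : RI G)
include h

/-- Two Sylow subgroups with a common 2-central involution and another common involution coincide. -/
theorem RI.eq {S T : Sylow 2 G} {a x : G} (haS : a ∈ (S : Subgroup G)) (haT : a ∈ (T : Subgroup G))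
    (ha : orderOf a = 2) (hac : TwoCen a) (hxS : x ∈ (S : Subgroup G)) (hxT : x ∈ (T : Subgroup G))
    (hx : orderOf x = 2) (hne : x ≠ a) : S = T := by
  by_contra hST
  exact hne (h S T hST a ⟨haS, haT⟩ ha hac x ⟨hxS, hxT⟩ hx)

/-- The 2-central involutions of `S` are central in `S`. -/
theorem RI.cen {S : Sylow 2 G} {x : G} (hx : x ∈ (S : Subgroup G)) (hx2 : orderOf x = 2) (hc : TwoCen x) :
    Cen S x := by
  obtain ⟨U, hU, hcU⟩ := hc
  have hU' : (U : Subgroup G) ≤ centralizer ({x} : Set G) := fun s hs =>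
    mem_centralizer_singleton_iff.2 (hcU s hs).eq
  obtain ⟨c, hc', hle⟩ := Small.exists_smul_sylow_ge_inside ((S : Subgroup G) ⊓ centralizer ({x} : Set G))
    (S.2.to_le inf_le_left) inf_le_right U hU'
  have hxc : c * x * c⁻¹ = x := by rw [mem_centralizer_singleton_iff.1 hc', mul_inv_cancel_right]
  obtain ⟨h1, h2⟩ := cen_smul c hU hcU
  rw [hxc] at h1 h2
  by_cases e : c • U = S
  · rwa [e] at h2
  obtain ⟨z, hz, hz2, hzc⟩ := exists_cen_invol (S := S) fun e => by
    rw [e, mem_bot] at hx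
    rw [hx, orderOf_one] at hx2
    exact absurd hx2 (by decide)
  have hzx : z ∈ centralizer ({x} : Set G) := mem_centralizer_singleton_iff.2 (hzc x hx).symm.eq
  by_cases hzx' : z = x
  · rwa [hzx'] at hzc
  exact absurd (h.eq h1 hx hx2 ⟨U, hU, hcU⟩ (hle ⟨hz, hzx⟩) hz hz2 hzx') e

variable [IsSimpleGroup G]

omit h in
theorem isolated_false' (hna : ¬ IsMulCommutative G) {S : Sylow 2 G} {z : G} (hz : orderOf z = 2)
    (hzS : z ∈ (S : Subgroup G)) (hiso : ∀ g : G, g * z * g⁻¹ ∈ (S : Subgroup G) → g * z * g⁻¹ = z) : False := by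
  have hzc : z ∈ Subgroup.center G :=
    Subgroup.mem_center_iff.2 fun g =>
      (Char.zStar_central (Char.oddInvol_of_isolated_sylow hz hzS hiso) (simple_core hna) g).symm
  rw [simple_center hna, mem_bot] at hzc
  rw [hzc, orderOf_one] at hz
  exact absurd hz (by decide)

/-- A second central involution. -/
theorem RI.exists_moved (hna : ¬ IsMulCommutative G) {S : Sylow 2 G} {a : G} (ha : a ∈ (S : Subgroup G))
    (ha2 : orderOf a = 2) (hac : Cen S a) :
    ∃ n ∈ normalizer ((S : Subgroup G) : Set G), n * a * n⁻¹ ≠ a := by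
  by_contra hall
  push Not at hall
  refine isolated_false' hna ha2 ha fun g hg => ?_
  obtain ⟨n, hn, e⟩ := fusion_cen hac (h.cen hg (by rw [orderOf_conj', ha2]) (TwoCen.conj ⟨S, ha, hac⟩ g))
  rw [← e]
  exact hall n hn

end Cfsg.Agent.RankOneCI
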