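import Cfsg.Agent.Lib.RankOneCI.Bad
import Cfsg.Agent.Lib.CI.Ident
import Cfsg.Agent.Lib.CI.Quotient
import Cfsg.Agent.Lib.SECrit.Pure
import Cfsg.Agent.S0252
import Cfsg.Agent.S0253
import Cfsg.Agent.S0448
import Cfsg.Agent.S2119

/-!
# Good centralisers, and abelian Sylow 2-subgroups
-/

set_option autoImplicit false
set_option linter.style.haveILetI false
set_option linter.unusedSectionVars false
set_option linter.dupNamespace false

namespace Cfsg.Agent.RankOneCI

open Subgroup Cfsg.Agent Cfsg.Agent.CI Cfsg.Agent.Solv.AbelianTwo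
open scoped Pointwise

universe u

variable {G : Type u} [Group G] [Finite G]

/-- The five conclusions. -/
def Target (G : Type u) [Group G] : Prop :=
  (∃ (n : ℕ) (F : Type) (_ : Field F) (_ : Fintype F), 2 ≤ n ∧ Fintype.card F = 2 ^ n ∧
      Nonempty (G ≃* Matrix.ProjectiveSpecialLinearGroup (Fin 2) F)) ∨
  (∃ (m : ℕ) (F : Type) (_ : Field F) (_ : Fintype F), 1 ≤ m ∧ Fintype.card F = 2 ^ (2 * m + 1) ∧
      Nonempty (G ≃* ↥(Cfsg.Lie.Sz F (2 ^ (m + 1))))) ∨
  (∃ (n : ℕ) (F : Type) (_ : Field F) (_ : Fintype F), 2 ≤ n ∧ Fintype.card F = 4 ^ n ∧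
      Nonempty (G ≃* Cfsg.PSU 3 F (2 ^ n))) ∨
  (∃ (F : Type) (_ : Field F) (_ : Fintype F), (Fintype.card F % 8 = 3 ∨ Fintype.card F % 8 = 5) ∧
      5 < Fintype.card F ∧ Nonempty (G ≃* Matrix.ProjectiveSpecialLinearGroup (Fin 2) F)) ∨
  Cfsg.IsJ1 G

/-- A 2-subgroup normalising `S` lies in `S`. -/
theorem le_of_norm {S : Sylow 2 G} {P : Subgroup G} (hP : IsPGroup 2 P)
    (hPn : P ≤ normalizer ((S : Subgroup G) : Set G)) : P ≤ (S : Subgroup G) :=
  le_sup_right.trans (sylow_eq_of_le (S.2.to_sup_of_normal_left' hP hPn) le_sup_left).le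

theorem invol_mem_of_norm {S : Sylow 2 G} {x : G} (hx : orderOf x = 2)
    (hn : x ∈ normalizer ((S : Subgroup G) : Set G)) : x ∈ (S : Subgroup G) :=
  le_of_norm (IsPGroup.of_card (n := 1) (by rw [Nat.card_zpowers, hx, pow_one])) (zpowers_le.2 hn)
    (mem_zpowers x)

theorem target_of_se [IsSimpleGroup G] (hna : ¬ IsMulCommutative G) {H : Subgroup G}
    (hH : Cfsg.IsStronglyEmbedded H) : Target G := by
  rcases ident hna hH with ⟨F, iF, iFF, n, hn, hF, e⟩ | ⟨F, iF, iFF, m, hm, hF, e⟩ |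
    ⟨F, iF, iFF, n, hn, hF, e⟩
  · exact Or.inl ⟨n, F, iF, iFF, hn, hF, e⟩
  · exact Or.inr (Or.inl ⟨m, F, iF, iFF, hm, hF, e⟩)
  · exact Or.inr (Or.inr (Or.inl ⟨n, F, iF, iFF, hn, by rw [hF, ← pow_mul, mul_comm, pow_mul]; norm_num, e⟩))

/-- All centralisers of 2-central involutions normalise their Sylow subgroups. -/
theorem good_case (crit : SECrit.Crit.{u}) [IsSimpleGroup G] (hna : ¬ IsMulCommutative G) (h : RI G)
    (hgood : ∀ (S : Sylow 2 G) (a : G), a ∈ (S : Subgroup G) → orderOf a = 2 → Cen S a →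
      centralizer ({a} : Set G) ≤ normalizer ((S : Subgroup G) : Set G)) : Target G := by
  obtain ⟨S⟩ : Nonempty (Sylow 2 G) := inferInstance
  have hS : (S : Subgroup G) ≠ ⊥ := fun e => by
    have ho : Odd (Nat.card G) := by
      rw [← Subgroup.card_mul_index (S : Subgroup G), e, Subgroup.card_bot, one_mul, ← e]
      exact Nat.not_even_iff_odd.1 fun he => S.not_dvd_index he.two_dvd
    haveI := Bender.AbelianSolvable.odd_solvable' ho
    exact hna ⟨⟨IsSimpleGroup.comm_iff_isSolvable.2 inferInstance⟩⟩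
  obtain ⟨z, hz, hz2, hzc⟩ := exists_cen_invol hS
  have hzM : z ∈ normalizer ((S : Subgroup G) : Set G) := le_normalizer hz
  suffices hh : (normalizer ((S : Subgroup G) : Set G) ≠ ⊤) ∧
      (∀ g : G, g * z * g⁻¹ ∈ normalizer ((S : Subgroup G) : Set G) → g ∈ normalizer ((S : Subgroup G) : Set G)) ∧
      ∀ g : G, Commute z (g * z * g⁻¹) → g * z * g⁻¹ ≠ z →
        centralizer ({z * (g * z * g⁻¹)} : Set G) ≤ normalizer ((S : Subgroup G) : Set G) by
    obtain ⟨H, hH⟩ := SECrit.pair_simple_concl crit _ hh.1 z hz2 hzM ⟨S, hz, fun s hs => hzc s hs⟩ hh.2.1 hh.2.2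
    exact target_of_se hna hH
  refine ⟨?_, ?_, ?_⟩
  · intro htop
    haveI : (S : Subgroup G).Normal := normalizer_eq_top_iff.1 htop
    rcases (inferInstance : (S : Subgroup G).Normal).eq_bot_or_eq_top with e | e
    · exact hS e
    · haveI : Group.IsNilpotent G := by
        have hp : IsPGroup 2 G := by
          intro g
          obtain ⟨k, hk⟩ := S.2 ⟨g, e ▸ mem_top g⟩
          exact ⟨k, congrArg Subtype.val hk⟩
        exact hp.isNilpotent
      exact hna ⟨⟨IsSimpleGroup.comm_iff_isSolvable.2 inferInstance⟩⟩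
  · intro g hg
    have hg2 : orderOf (g * z * g⁻¹) = 2 := by rw [orderOf_conj', hz2]
    have hgS := invol_mem_of_norm hg2 hg
    have hgc := h.cen hgS hg2 (TwoCen.conj ⟨S, hz, hzc⟩ g)
    obtain ⟨-, h2⟩ := cen_smul g hz hzc
    have h3 : ((g • S : Sylow 2 G) : Subgroup G) ≤ normalizer ((S : Subgroup G) : Set G) := fun s hs =>
      hgood S _ hgS hg2 hgc (mem_centralizer_singleton_iff.2 (h2 s hs).eq)
    exact Sylow.smul_eq_iff_mem_normalizer.1 (Sylow.ext (sylow_eq_of_le S.2 (le_of_norm (g • S).2 h3)).symm)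
  · intro g hcomm hne
    set z' := g * z * g⁻¹ with hz'
    have hg2 : orderOf z' = 2 := by rw [hz', orderOf_conj', hz2]
    have hz'N : z' ∈ normalizer ((S : Subgroup G) : Set G) :=
      hgood S z hz hz2 hzc (mem_centralizer_singleton_iff.2 hcomm.eq.symm)
    have hz'S := invol_mem_of_norm hg2 hz'N
    have hc' := h.cen hz'S hg2 (TwoCen.conj ⟨S, hz, hzc⟩ g)
    refine hgood S _ (mul_mem hz hz'S) (order_of_mul_self ?_ fun e => hne ?_)
      fun s hs => (hzc s hs).mul_right (hc' s hs)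
    · rw [mul_assoc, ← mul_assoc z', ← hcomm.eq, mul_assoc z z' z', mul_self_of_order hg2, mul_one,
        mul_self_of_order hz2]
    · rw [eq_inv_of_mul_eq_one_right e, inv_eq_of_mul_eq_one_right (mul_self_of_order hz2)]

/-- No two four-groups of a component share an involution: the field has five elements. -/
theorem jr_card {t : G} (hab : Ab2 G) (h : RI G) (h8 : ∀ U : Sylow 2 G, Nat.card (U : Subgroup G) = 8)
    (ht : orderOf t = 2) {N : Subgroup G}
    (hNC : N ≤ centralizer ({t} : Set G)) {F : Type} [Field F] [Fintype F] (hFo : Odd (Fintype.card F))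
    (h5 : 5 ≤ Fintype.card F) (iso : N ≃* Matrix.ProjectiveSpecialLinearGroup (Fin 2) F) (htN : t ∉ N) :
    Fintype.card F = 5 := by
  haveI : Finite (Matrix.ProjectiveSpecialLinearGroup (Fin 2) F) := Finite.of_surjective _ Small.PSL2.pr_surjective
  haveI : IsSimpleGroup N := by
    haveI : IsSimpleGroup (Matrix.ProjectiveSpecialLinearGroup (Fin 2) F) :=
      Matrix.ProjectiveSpecialLinearGroup.rank_two_simple (by rw [Nat.card_eq_fintype_card]; omega)
    exact iso.isSimpleGroup
  have hna : ¬ IsMulCommutative N := fun hc => by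
    refine S0810.psl_not_solvable (F := F) (by omega) ?_
    haveI := hc
    haveI : Group.IsSolvable N := Group.isSolvable_of_comm fun a b => hc.is_comm.comm a b
    exact Group.isSolvable_of_surjective (f := iso.toMonoidHom) iso.surjective
  have htwo : ∀ x : G, orderOf x = 2 → TwoCen x := fun x hx => by
    obtain ⟨U, hU⟩ := (IsPGroup.of_card (n := 1) (by rw [Nat.card_zpowers, hx, pow_one]) :
      IsPGroup 2 (zpowers x)).exists_le_sylow
    haveI := hab U
    exact ⟨U, hU (mem_zpowers x), fun s hs => congrArg Subtype.val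
      (IsMulCommutative.is_comm.comm (⟨s, hs⟩ : (U : Subgroup G)) ⟨x, hU (mem_zpowers x)⟩)⟩
  obtain ⟨P⟩ : Nonempty (Sylow 2 N) := inferInstance
  -- the normaliser of `P` is strongly embedded in `N`
  have hse : Cfsg.IsStronglyEmbedded (normalizer ((P : Subgroup N) : Set N)) := by
    have heven : Even (Nat.card (P : Subgroup N)) := by
      obtain ⟨k, hk⟩ := IsPGroup.iff_card.1 P.2
      rcases k with _ | k
      · exfalso
        have ho : Odd (Nat.card N) := by
          rw [← Subgroup.card_mul_index (P : Subgroup N), hk, pow_zero, one_mul]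
          exact Nat.not_even_iff_odd.1 fun he => P.not_dvd_index he.two_dvd
        haveI := Bender.AbelianSolvable.odd_solvable' ho
        exact hna ⟨⟨IsSimpleGroup.comm_iff_isSolvable.2 inferInstance⟩⟩
      · rw [hk, pow_succ]; exact even_two.mul_left _
    refine ⟨fun htop => ?_, even_iff_two_dvd.2 (heven.two_dvd.trans (card_dvd_of_le le_normalizer)), fun g hg =>
      SEB.odd_of_no_invol fun x hx hx2 => hg ?_⟩
    · haveI : (P : Subgroup N).Normal := normalizer_eq_top_iff.1 htop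
      rcases (inferInstance : (P : Subgroup N).Normal).eq_bot_or_eq_top with e | e
      · rw [e, Subgroup.card_bot] at heven; exact absurd heven (by decide)
      · haveI : Group.IsNilpotent N := by
          have hp : IsPGroup 2 N := by
            intro g
            obtain ⟨k, hk⟩ := P.2 ⟨g, e ▸ mem_top g⟩
            exact ⟨k, congrArg Subtype.val hk⟩
          exact hp.isNilpotent
        exact hna ⟨⟨IsSimpleGroup.comm_iff_isSolvable.2 inferInstance⟩⟩
    obtain ⟨hx1, y, hy, hyx⟩ := hx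
    have hyx' : g * y * g⁻¹ = x := hyx
    have hxP : x ∈ (P : Subgroup N) := invol_mem_of_norm hx2 hx1
    have hy2 : orderOf y = 2 := by rw [← orderOf_conj' g y, hyx', hx2]
    have hxP' : x ∈ ((g • P : Sylow 2 N) : Subgroup N) :=
      sylow_mem_smul.2 (by rw [← hyx', show g⁻¹ * (g * y * g⁻¹) * g = y by group]; exact invol_mem_of_norm hy2 hy)
    refine Sylow.smul_eq_iff_mem_normalizer.1 (Sylow.ext ?_)
    have ext : ∀ Q : Sylow 2 N, ∃ U : Sylow 2 G, (Q : Subgroup N).map N.subtype ≤ (U : Subgroup G) ∧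
        t ∈ (U : Subgroup G) := fun Q => by
      have h1 : IsPGroup 2 ((Q : Subgroup N).map N.subtype ⊔ zpowers t : Subgroup G) := by
        refine (Q.2.map N.subtype).to_sup_of_normal_left'
          (IsPGroup.of_card (n := 1) (by rw [Nat.card_zpowers, ht, pow_one])) (zpowers_le.2 ?_)
        refine mem_normalizer_fintype ?_
        rintro _ ⟨q, hq, rfl⟩
        rw [show t * N.subtype q * t⁻¹ = N.subtype q from
          mul_inv_eq_iff_eq_mul.2 (mem_centralizer_singleton_iff.1 (hNC q.2)).symm]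
        exact mem_map_of_mem N.subtype hq
      obtain ⟨U, hU⟩ := h1.exists_le_sylow
      exact ⟨U, le_sup_left.trans hU, hU (mem_sup_right (mem_zpowers t))⟩
    obtain ⟨U, hU, htU⟩ := ext (g • P)
    obtain ⟨V, hV, htV⟩ := ext P
    have hUV : U = V := h.eq htU htV ht (htwo t ht) (hU (mem_map_of_mem N.subtype hxP'))
      (hV (mem_map_of_mem N.subtype hxP)) (by rw [Subgroup.coe_subtype, Subgroup.orderOf_coe, hx2])
      fun e => htN (e ▸ x.2)
    have h2 : IsPGroup 2 (((g • P : Sylow 2 N) : Subgroup N) ⊔ (P : Subgroup N) : Subgroup N) := by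
      refine (U.2.comap_of_injective N.subtype N.subtype_injective).to_le (sup_le (map_le_iff_le_comap.1 hU) ?_)
      rw [hUV]; exact map_le_iff_le_comap.1 hV
    rw [← sylow_eq_of_le h2 (le_sup_left : ((g • P : Sylow 2 N) : Subgroup N) ≤ _),
      sylow_eq_of_le h2 (le_sup_right : (P : Subgroup N) ≤ _)]
  -- `N` is `PSL₂(4)`
  have h1 := Classical.Dickson.card_psl F
  rw [← Nat.card_congr iso.toEquiv] at h1
  have hP4 : Nat.card (P : Subgroup N) ≤ 4 := by
    have hp : IsPGroup 2 ((P : Subgroup N).map N.subtype ⊔ zpowers t : Subgroup G) := by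
      refine (P.2.map N.subtype).to_sup_of_normal_left'
        (IsPGroup.of_card (n := 1) (by rw [Nat.card_zpowers, ht, pow_one])) (zpowers_le.2 ?_)
      refine mem_normalizer_fintype ?_
      rintro _ ⟨q, hq, rfl⟩
      rw [show t * N.subtype q * t⁻¹ = N.subtype q from
        mul_inv_eq_iff_eq_mul.2 (mem_centralizer_singleton_iff.1 (hNC q.2)).symm]
      exact mem_map_of_mem N.subtype hq
    obtain ⟨U, hU⟩ := hp.exists_le_sylow
    have h1 := card_dvd_of_le (le_sup_left.trans hU)
    rw [Subgroup.card_map_of_injective N.subtype_injective, h8 U] at h1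
    have hne : Nat.card (P : Subgroup N) ≠ 8 := fun e8 => by
      have h2 := eq_of_le_of_card_ge (le_sup_left.trans hU)
        (by rw [Subgroup.card_map_of_injective N.subtype_injective, e8, h8 U])
      have h3 : t ∈ (P : Subgroup N).map N.subtype := h2.symm ▸ hU (mem_sup_right (mem_zpowers t))
      obtain ⟨q, -, e⟩ := h3
      exact htN (e ▸ q.2)
    have h4 : Nat.card (P : Subgroup N) ∈ Nat.divisors 8 := Nat.mem_divisors.2 ⟨h1, by norm_num⟩
    rw [show Nat.divisors 8 = {1, 2, 4, 8} from rfl] at h4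
    simp only [Finset.mem_insert, Finset.mem_singleton] at h4
    omega
  rcases ident hna hse with ⟨K, iK, iKF, n, hn, hK, ⟨e⟩⟩ | ⟨K, iK, iKF, m, hm, hK, ⟨e⟩⟩ |
    ⟨K, iK, iKF, n, hn, hK, ⟨e⟩⟩
  · haveI : Finite (Matrix.ProjectiveSpecialLinearGroup (Fin 2) K) := Finite.of_equiv _ e.toEquiv
    obtain ⟨Q, ⟨φ⟩⟩ := exists_sylow_equiv e P
    rw [Nat.card_congr φ.toEquiv, (psl_sylow hn hK Q).2] at hP4
    obtain rfl : n = 2 := by
      have := (Nat.pow_le_pow_iff_right (by norm_num : 1 < 2)).1 (hP4.trans_eq (by norm_num : 4 = 2 ^ 2))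
      omega
    have h2 := Classical.Dickson.card_psl K
    rw [← Nat.card_congr e.toEquiv, hK, show Nat.gcd 2 (2 ^ 2 - 1) = 1 from rfl, mul_one] at h2
    have h60 : Nat.card N = 60 := h2.trans (by norm_num)
    rw [h60] at h1
    by_contra hne
    obtain ⟨r, hr⟩ := hFo
    have h6 : 6 ≤ Fintype.card F := by omega
    have h7 : 6 * (6 ^ 2 - 1) ≤ Fintype.card F * (Fintype.card F ^ 2 - 1) :=
      Nat.mul_le_mul h6 (Nat.sub_le_sub_right (Nat.pow_le_pow_left h6 2) 1)
    have hg : Nat.gcd 2 (Fintype.card F - 1) ≤ 2 := Nat.le_of_dvd two_pos (Nat.gcd_dvd_left _ _)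
    have h8' : Fintype.card F * (Fintype.card F ^ 2 - 1) ≤ 120 := by
      rw [← h1]; exact Nat.mul_le_mul_left 60 hg
    omega
  · exfalso
    obtain ⟨f⟩ := Cfsg.Agent.Lie.Suzuki.lie_sz_equiv (F := K) hK hm
    haveI : Finite (Cfsg.Sz K m) := Finite.of_equiv _ (e.trans f.symm).toEquiv
    obtain ⟨Q, ⟨φ⟩⟩ := exists_sylow_equiv (e.trans f.symm) P
    rw [Nat.card_congr φ.toEquiv, (S0330.result hm hK Q).1, ← pow_mul] at hP4
    have := (Nat.pow_le_pow_iff_right (by norm_num : 1 < 2)).1 (hP4.trans_eq (by norm_num : 4 = 2 ^ 2))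
    omega
  · exfalso
    haveI : Finite (Cfsg.PSU 3 K (2 ^ n)) := Finite.of_equiv _ e.toEquiv
    obtain ⟨Q, ⟨φ⟩⟩ := exists_sylow_equiv e P
    rw [Nat.card_congr φ.toEquiv, (S1141.result hn hK Q).1, ← pow_mul] at hP4
    have := (Nat.pow_le_pow_iff_right (by norm_num : 1 < 2)).1 (hP4.trans_eq (by norm_num : 4 = 2 ^ 2))
    omega

/-- Abelian Sylow 2-subgroups. -/
theorem abelian_case [IsSimpleGroup G] (hna : ¬ IsMulCommutative G) (h : RI G) (hab : Ab2 G) : Target G := by
  rcases Walter.simpleStatement_of SEB.sol_all (Walter.R3.rankThreeStatement_of SEB.sol_all) G hna hab with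
    ⟨F, iF, iT, hq, he⟩ | hJ
  · rcases hq with ⟨n, hn, hF⟩ | ⟨h35, h5⟩
    · exact Or.inl ⟨n, F, iF, iT, hn, hF, he⟩
    · rcases Nat.lt_or_ge 5 (Fintype.card F) with h6 | h6
      · exact Or.inr (Or.inr (Or.inr (Or.inl ⟨F, iF, iT, h35, h6, he⟩)))
      · haveI : Fact (Nat.Prime 2) := ⟨Nat.prime_two⟩
        obtain ⟨e⟩ := he
        obtain ⟨a5⟩ := S0253.result (F := F) (by omega)
        letI : Fintype (GaloisField 2 2) := Fintype.ofFinite _
        have hL : Fintype.card (GaloisField 2 2) = 4 := by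
          rw [← Nat.card_eq_fintype_card, GaloisField.card 2 2 two_ne_zero]; norm_num
        obtain ⟨a4⟩ := S0252.result hL
        exact Or.inl ⟨2, GaloisField 2 2, inferInstance, inferInstance, le_rfl, by rw [hL]; norm_num,
          ⟨e.trans (a5.trans a4.symm)⟩⟩
  refine Or.inr (Or.inr (Or.inr (Or.inr ?_)))
  obtain ⟨T, hT8, -⟩ := Walter.cyc_jr hJ
  have h8 : ∀ U : Sylow 2 G, Nat.card (U : Subgroup G) = 8 := fun U =>
    (Nat.card_congr (Sylow.equiv U T).toEquiv).trans hT8
  obtain ⟨-, -, t, E, N, F, iF, iT, ht, hE, hNE, hconj, hFo, hF5, ⟨iso⟩, hCE⟩ := hJ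
  obtain ⟨htC, hEC, hcomm, hdisj, hsup⟩ := hE
  have htN : t ∉ N := fun htN => by
    have h1 : t ∈ zpowers t ⊓ E := ⟨mem_zpowers t, hNE htN⟩
    rw [hdisj, mem_bot] at h1
    exact ne_one_of_order ht h1
  have hF := jr_card hab h h8 ht (hNE.trans hEC) hFo hF5 iso htN
  obtain ⟨a5⟩ := S0253.result (F := F) hF
  let f := iso.trans a5
  have hN60 : Nat.card N = 60 := by
    rw [Nat.card_congr f.toEquiv, nat_card_alternatingGroup, Nat.card_fin]; rfl
  -- `E = N`
  haveI : (N.subgroupOf E).Normal := ⟨fun n hn g => mem_subgroupOf.2 (hconj g g.2 n (mem_subgroupOf.1 hn))⟩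
  let A : MulAut (N.subgroupOf E) ≃* MulAut ↥(alternatingGroup (Fin 5)) :=
    MulAut.congr ((subgroupOfEquivOfLe hNE).trans f)
  let B : Equiv.Perm (Fin 5) ≃* MulAut ↥(alternatingGroup (Fin 5)) :=
    MulEquiv.ofBijective _ (S2119.result 5 (by norm_num) (by norm_num))
  let j : E →* Equiv.Perm (Fin 5) := B.symm.toMonoidHom.comp (A.toMonoidHom.comp MulAut.conjNormal)
  have hj : Function.Injective j := by
    refine B.symm.injective.comp (A.injective.comp ((injective_iff_map_eq_one _).2 fun e he => ?_))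
    have h1 : (e : G) ∈ E ⊓ centralizer (N : Set G) := ⟨e.2, mem_centralizer_iff.2 fun x hx => by
      have h2 := congrArg (fun y : N.subgroupOf E => ((y : E) : G))
        (MulEquiv.congr_fun he ⟨⟨x, hNE hx⟩, mem_subgroupOf.2 hx⟩)
      simp only [MulAut.one_apply, MulAut.conjNormal_apply, Subgroup.coe_mul, Subgroup.coe_inv] at h2
      exact (mul_inv_eq_iff_eq_mul.1 h2).symm⟩
    rw [hCE, mem_bot] at h1
    exact Subtype.ext h1
  have hdvd : Nat.card E ∣ 120 := by
    have := Subgroup.card_dvd_of_injective j hj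
    rwa [Nat.card_perm, Nat.card_fin] at this
  -- the direct product
  let μ : zpowers t × E →* centralizer ({t} : Set G) :=
    { toFun := fun p => ⟨p.1 * p.2, mul_mem (htC p.1.2) (hEC p.2.2)⟩
      map_one' := Subtype.ext (by simp)
      map_mul' := fun p q => Subtype.ext (by
        show (p.1 * q.1 : G) * (p.2 * q.2) = p.1 * p.2 * (q.1 * q.2)
        rw [mul_assoc (p.1 : G), ← mul_assoc (q.1 : G), hcomm q.1 q.1.2 p.2 p.2.2]
        group) }
  have hμ : Function.Bijective μ := by
    refine ⟨(injective_iff_map_eq_one _).2 fun p hp => ?_, fun x => ?_⟩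
    · have h0 : (p.1 : G) * p.2 = 1 := congrArg Subtype.val hp
      have h1 : (p.1 : G) ∈ zpowers t ⊓ E :=
        Subgroup.mem_inf.2 ⟨p.1.2, by rw [eq_inv_of_mul_eq_one_left h0]; exact inv_mem p.2.2⟩
      rw [hdisj, mem_bot] at h1
      rw [h1, one_mul] at h0
      exact Prod.ext (Subtype.ext h1) (Subtype.ext h0)
    · have hx : (x : G) ∈ zpowers t ⊔ E := hsup.ge x.2
      obtain ⟨u, hu, v, hv, e⟩ : (x : G) ∈ (zpowers t : Set G) * (E : Set G) := by
        rw [← Subgroup.coe_mul_of_right_le_normalizer_left (zpowers t) E fun e he => mem_normalizer_fintype fun u hu => by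
          rw [← hcomm u hu e he, mul_inv_cancel_right]; exact hu]
        exact hx
      exact ⟨(⟨u, hu⟩, ⟨v, hv⟩), Subtype.ext e⟩
  let eμ := MulEquiv.ofBijective μ hμ
  have hE60 : Nat.card E = 60 := by
    have hd : 60 ∣ Nat.card E := hN60 ▸ card_dvd_of_le hNE
    by_contra hne
    have h120 : Nat.card E = 120 := by
      obtain ⟨k, hk⟩ := hd
      have := Nat.le_of_dvd (by norm_num) hdvd
      have : 0 < Nat.card E := Nat.card_pos
      omega
    haveI : Fact (Nat.Prime 2) := ⟨Nat.prime_two⟩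
    have hc : Nat.card (centralizer ({t} : Set G)) = 240 := by
      rw [← Nat.card_congr eμ.toEquiv, Nat.card_prod, h120, Nat.card_zpowers, ht]
    have h16 : 2 ^ 4 ∣ Nat.card G := by
      refine dvd_trans ?_ (Subgroup.card_subgroup_dvd_card (centralizer ({t} : Set G)))
      rw [hc]; norm_num
    obtain ⟨P, hP⟩ := Sylow.exists_subgroup_card_pow_prime 2 h16
    obtain ⟨U, hU⟩ := (IsPGroup.of_card hP).exists_le_sylow
    have := Nat.le_of_dvd (by norm_num) (h8 U ▸ hP ▸ card_dvd_of_le hU)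
    omega
  have hEN : N = E := eq_of_le_of_card_ge hNE (by rw [hE60, hN60])
  have ez : zpowers t ≃* Multiplicative (ZMod 2) := by
    haveI : IsCyclic (zpowers t) := inferInstance
    exact mulEquivOfCyclicCardEq (by rw [Nat.card_zpowers, ht, Nat.card_congr Multiplicative.toAdd, Nat.card_zmod])
  obtain ⟨U, hU⟩ := (IsPGroup.of_card (n := 1) (by rw [Nat.card_zpowers, ht, pow_one]) :
    IsPGroup 2 (zpowers t)).exists_le_sylow
  exact S0448.result t ⟨ht, U, hU (mem_zpowers t), fun s hs => by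
      haveI := hab U
      exact congrArg Subtype.val (IsMulCommutative.is_comm.comm (⟨s, hs⟩ : (U : Subgroup G)) ⟨t, hU (mem_zpowers t)⟩)⟩
    (eμ.symm.trans (ez.prodCongr ((MulEquiv.subgroupCongr hEN.symm).trans f)))

end Cfsg.Agent.RankOneCI
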