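import Cfsg.Agent.Lib.RankOneCI.Loc
import Cfsg.Agent.Lib.CI.Structure
import Cfsg.Agent.Lib.CI.Ident
import Cfsg.Agent.Lib.CI.Cover
import Cfsg.Agent.Lib.SECrit.Pure
import Cfsg.Agent.S1225

/-!
# The component does not exist

Outside the component `a` makes the squares unevenly distributed; inside it the central quotient has a strongly embedded
subgroup, and only sixteen elements of square one are possible.
-/

set_option autoImplicit false
set_option linter.style.haveILetI false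
set_option linter.unusedSectionVars false
set_option linter.dupNamespace false

namespace Cfsg.Agent.RankOneCI

open Subgroup Cfsg.Agent Cfsg.Agent.CI
open scoped commutatorElement Pointwise

universe u v

/-- Counting by squares. -/
theorem card_squares {Q : Type v} [Group Q] [Finite Q] (hsq : ∀ y : Q, (y * y) * (y * y) = 1) (r : ℕ)
    (hr : ∀ x : Q, orderOf x = 2 → Nat.card {y : Q // y * y = x} = r) :
    Nat.card Q = Nat.card {x : Q // orderOf x = 2} + 1 + Nat.card {x : Q // orderOf x = 2} * r := by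
  classical
  haveI := Fintype.ofFinite Q
  let e : Q ≃ {y : Q // y * y = 1} ⊕ Σ x : {x : Q // orderOf x = 2}, {y : Q // y * y = x} :=
    { toFun := fun y => if h : y * y = 1 then Sum.inl ⟨y, h⟩
        else Sum.inr ⟨⟨y * y, order_of_mul_self (hsq y) h⟩, y, rfl⟩
      invFun := fun s => s.elim (fun y => y.1) (fun p => p.2.1)
      left_inv := fun y => by by_cases h : y * y = 1 <;> simp [h]
      right_inv := by
        rintro (⟨y, hy⟩ | ⟨⟨x, hx⟩, y, hy⟩)
        · simp [hy]
        · have h : ¬ y * y = 1 := fun h => ne_one_of_order hx (hy.symm.trans h)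
          obtain rfl : x = y * y := hy.symm
          exact dif_neg h }
  let e1 : {y : Q // y * y = 1} ≃ Option {x : Q // orderOf x = 2} :=
    { toFun := fun y => if h : y.1 = 1 then none else some ⟨y.1, order_of_mul_self y.2 h⟩
      invFun := fun o => o.elim ⟨1, one_mul 1⟩ fun x => ⟨x.1, mul_self_of_order x.2⟩
      left_inv := fun y => by
        by_cases h : y.1 = 1
        · simp [h]; exact Subtype.ext h.symm
        · simp [h]
      right_inv := fun o => by
        rcases o with _ | x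
        · simp
        · simp [ne_one_of_order x.2] }
  rw [Nat.card_congr e, Nat.card_sum, Nat.card_congr e1, Finite.card_option, Nat.card_sigma,
    Finset.sum_congr rfl (fun x _ => hr x.1 x.2), Finset.sum_const, Finset.card_univ, smul_eq_mul,
    Nat.card_eq_fintype_card]

/-- In a simple group with a strongly embedded subgroup the involutions are conjugate. -/
theorem one_class_se {K : Type v} [Group K] [Finite K] {H : Subgroup K} (hH : Cfsg.IsStronglyEmbedded H) {x y : K}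
    (hx : orderOf x = 2) (hy : orderOf y = 2) : IsConj x y := by
  obtain ⟨⟨u, huH⟩, hu⟩ := exists_prime_orderOf_dvd_card' (G := H) 2 hH.2.1.two_dvd
  rw [Subgroup.orderOf_mk] at hu
  obtain ⟨g, hg⟩ : ∃ g : K, g ∉ H := by
    by_contra h
    push Not at h
    exact hH.1 ((Subgroup.eq_top_iff' H).2 h)
  have hout : g * u * g⁻¹ ∉ H := fun h => by
    refine Nat.not_even_iff_odd.2 (hH.2.2 g hg) (even_iff_two_dvd.2 ?_)
    have h2 := orderOf_dvd_natCard (⟨g * u * g⁻¹, h, u, huH, rfl⟩ : ↥(H ⊓ H.map (MulAut.conj g).toMonoidHom))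
    rw [← Subgroup.orderOf_coe] at h2
    change orderOf (g * u * g⁻¹) ∣ _ at h2
    rw [orderOf_conj', hu] at h2
    exact h2
  exact (S1225.result H hH _ (by rw [orderOf_conj', hu]) hout u u hu huH hu huH).2 x y hx hy

variable {X : Type u} [Group X] [Finite X] {S : Sylow 2 X} {a : X} (c : Loc S a) {J : Subgroup X}
  (hJ : Cfsg.IsComponent J)
include c hJ

/-- An element of the component moving an involution into `S` normalises `S ∩ J`. -/
theorem Loc.norm_trace {x g : X} (hx : x ∈ (S : Subgroup X)) (hx2 : orderOf x = 2) (hne : x ≠ a) (hgJ : g ∈ J)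
    (hg : g * x * g⁻¹ ∈ (S : Subgroup X)) : g ∈ normalizer (((S : Subgroup X) ⊓ J : Subgroup X) : Set X) :=
  Fusion.mem_normalizer_iff_cj.2 (by
    rw [Fusion.cj_inf, Fusion.cj_eq_self (c.norm_of hx hx2 hne hg), Fusion.cj_eq_self_of_mem hgJ])

theorem Loc.center_invol {z : X} (hz : z ∈ J) (hzc : (⟨z, hz⟩ : J) ∈ Subgroup.center J) (hz2 : orderOf z = 2) :
    z = a := by
  have hzF : z ∈ Cfsg.fittingSubgroup X := Solv.center_component_le_fitting hJ ⟨⟨z, hz⟩, hzc, rfl⟩
  obtain ⟨T, hT⟩ := c.exists_ne_sylow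
  by_contra hza
  exact hT (c.uniq z (fitting_le_sylow c.core S hzF) hz2 hza T (fitting_le_sylow c.core T hzF))

theorem Loc.center_bot (haJ : a ∉ J) : Subgroup.center J = ⊥ := by
  by_contra hne
  obtain ⟨k, hk⟩ := IsPGroup.iff_card.1 (comp_center_two hJ c.core)
  have hk0 : k ≠ 0 := fun e => hne (Subgroup.card_eq_one.1 (by rw [hk, e, pow_zero]))
  obtain ⟨⟨⟨z, hzJ⟩, hzc⟩, hz⟩ := exists_prime_orderOf_dvd_card' (G := Subgroup.center J) 2 (hk ▸ dvd_pow_self 2 hk0)
  rw [Subgroup.orderOf_mk, Subgroup.orderOf_mk] at hz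
  exact haJ (c.center_invol hJ hzJ hzc hz ▸ hzJ)

/-- `a` lies in the component. -/
theorem Loc.a_mem : a ∈ J := by
  by_contra haJ
  haveI := c.comp_normal' hJ
  have haa := mul_self_of_order c.invol
  have hZ := c.center_bot hJ haJ
  haveI hsimp : IsSimpleGroup J := by
    haveI := hJ.2.2
    exact ((QuotientGroup.quotientMulEquivOfEq hZ).trans QuotientGroup.quotientBot).symm.isSimpleGroup
  have hperf := comp_perfect hJ
  have hna : ¬ IsMulCommutative J := fun hc => by
    have h1 : ⁅(⊤ : Subgroup J), (⊤ : Subgroup J)⁆ = ⊥ :=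
      commutator_eq_bot_iff_le_centralizer.2 fun a _ => mem_centralizer_iff.2 fun b _ => hc.is_comm.comm b a
    haveI := Solv.qs_nontrivial hJ.2
    exact top_ne_bot (hperf.symm.trans h1)
  obtain ⟨P, hPe⟩ := (comp_sylIn hJ S).exists_sylow_subgroupOf
  have hP : ∀ y : J, y ∈ (P : Subgroup J) ↔ (y : X) ∈ (S : Subgroup X) := fun y => by
    rw [hPe, mem_subgroupOf]; exact ⟨fun h => h.1, fun h => ⟨h, y.2⟩⟩
  obtain ⟨x₀, hx₀, hx₀2, hx₀a⟩ := c.exists_in_comp hJ
  -- the normaliser of `P` is strongly embedded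
  have hse : Cfsg.IsStronglyEmbedded (normalizer ((P : Subgroup J) : Set J)) := by
    refine ⟨fun htop => comp_not_norm hJ S fun j hj => mem_normalizer_fintype fun y hy => ?_, ?_, fun g hg =>
      SEB.odd_of_no_invol fun w hw hw2 => hg ?_⟩
    · haveI : (P : Subgroup J).Normal := normalizer_eq_top_iff.1 htop
      exact ⟨(hP (⟨j, hj⟩ * ⟨y, hy.2⟩ * ⟨j, hj⟩⁻¹)).1 (‹(P : Subgroup J).Normal›.conj_mem _ ((hP ⟨y, hy.2⟩).2 hy.1) _),
        J.mul_mem (J.mul_mem hj hy.2) (J.inv_mem hj)⟩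
    · have h1 : orderOf (⟨x₀, hx₀.2⟩ : J) ∣ Nat.card (P : Subgroup J) :=
        (Subgroup.orderOf_mk (⟨x₀, hx₀.2⟩ : J) ((hP _).2 hx₀.1)) ▸ orderOf_dvd_natCard _
      rw [Subgroup.orderOf_mk, hx₀2] at h1
      exact even_iff_two_dvd.2 (h1.trans (card_dvd_of_le le_normalizer))
    obtain ⟨hw1, y, hy, hyw⟩ := hw
    have hyw' : g * y * g⁻¹ = w := hyw
    have hy2 : orderOf y = 2 := by rw [← orderOf_conj' g y, hyw', hw2]
    have inP : ∀ u : J, orderOf u = 2 → u ∈ normalizer ((P : Subgroup J) : Set J) → u ∈ (P : Subgroup J) :=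
      fun u hu hn => (sylow_eq_of_le (P.2.to_sup_of_normal_left'
        (IsPGroup.of_card (n := 1) (by rw [Nat.card_zpowers, hu, pow_one])) (zpowers_le.2 hn)) le_sup_left).le
          (mem_sup_right (mem_zpowers u))
    have h1 := c.norm_trace hJ ((hP y).1 (inP y hy2 hy)) (by rw [Subgroup.orderOf_coe, hy2])
      (fun e => haJ (e ▸ y.2)) g.2 (by
        have := (hP w).1 (inP w hw2 hw1)
        rwa [← hyw'] at this)
    refine mem_normalizer_fintype fun p hp => (hP _).2 ?_
    exact ((mem_normalizer_iff.1 h1 p).1 ⟨(hP p).1 hp, p.2⟩).1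
  have htt := twoTrans_of_se hna hse
  -- a second Sylow subgroup
  obtain ⟨T, hT⟩ := c.exists_ne_sylow
  have haT : a ∈ (T : Subgroup X) := by
    haveI : (zpowers a).Normal := ⟨fun n hn g => by
      obtain ⟨i, rfl⟩ := mem_zpowers_iff.1 hn
      rw [(show Commute g (a ^ i) from Commute.zpow_right (c.comm_a g).symm i).eq, mul_inv_cancel_right]
      exact zpow_mem (mem_zpowers a) i⟩
    exact (IsPGroup.of_card (n := 1) (by rw [Nat.card_zpowers, c.invol, pow_one]) :
      IsPGroup 2 (zpowers a)).le_sylow_of_normal T (mem_zpowers a)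
  obtain ⟨R, hRe⟩ := (comp_sylIn hJ T).exists_sylow_subgroupOf
  have hR : ∀ y : J, y ∈ (R : Subgroup J) ↔ (y : X) ∈ (T : Subgroup X) := fun y => by
    rw [hRe, mem_subgroupOf]; exact ⟨fun h => h.1, fun h => ⟨h, y.2⟩⟩
  have hRP : R ≠ P := fun e => hT (c.uniq x₀ hx₀.1 hx₀2 hx₀a T ((hR ⟨x₀, hx₀.2⟩).1 (e ▸ (hP ⟨x₀, hx₀.2⟩).2 hx₀.1)))
  -- `S ∩ T ∩ J = 1`
  have hdis : ∀ y ∈ (S : Subgroup X), y ∈ (T : Subgroup X) → y ∈ J → y = 1 := by
    intro y hyS hyT hyJ
    by_contra hy1
    obtain ⟨u, huy, hu2⟩ : ∃ u ∈ zpowers y, orderOf u = 2 := by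
      by_cases h : y * y = 1
      · exact ⟨y, mem_zpowers y, order_of_mul_self h hy1⟩
      · exact ⟨y * y, mul_mem (mem_zpowers y) (mem_zpowers y), order_of_mul_self (c.sq y hyS) h⟩
    exact hT (c.uniq u (zpowers_le.2 hyS huy) hu2 (fun e => haJ (e ▸ zpowers_le.2 hyJ huy)) T
      (zpowers_le.2 hyT huy))
  -- `S = (S ∩ J) (S ∩ T)`
  have hsplit : ∀ s ∈ (S : Subgroup X), ∃ p ∈ (S : Subgroup X) ⊓ J, p⁻¹ * s ∈ (T : Subgroup X) := by
    intro s hs
    obtain ⟨R', hR'⟩ := exists_sylow_conj R s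
    have hR'P : R' ≠ P := fun e => hRP (Sylow.ext (sylow_eq_of_le P.2 (fun z hz => by
      have h1 : (⟨s * z * s⁻¹, ‹J.Normal›.conj_mem z z.2 s⟩ : J) ∈ (R' : Subgroup J) := (hR' _).2 ⟨z, hz, rfl⟩
      rw [e, hP] at h1
      refine (hP z).2 ?_
      rw [show (z : X) = s⁻¹ * (s * z * s⁻¹) * s by group]
      exact mul_mem (mul_mem (inv_mem hs) h1) hs)).symm)
    obtain ⟨p, hp, hpR⟩ := htt P R R' hRP hR'P
    refine ⟨p, ⟨(hP p).1 hp, p.2⟩, ?_⟩
    obtain ⟨d, hd, hd2, hda⟩ : ∃ d : X, d ∈ (T : Subgroup X) ⊓ J ∧ orderOf d = 2 ∧ d ≠ a := by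
      obtain ⟨g, hg⟩ := MulAction.exists_smul_eq J P R
      refine ⟨(g : X) * x₀ * (g : X)⁻¹, ⟨?_, J.mul_mem (J.mul_mem g.2 hx₀.2) (J.inv_mem g.2)⟩, by rw [orderOf_conj', hx₀2],
        fun e => haJ (e ▸ mul_mem (mul_mem g.2 hx₀.2) (inv_mem g.2))⟩
      refine (hR (g * ⟨x₀, hx₀.2⟩ * g⁻¹)).1 ?_
      rw [← hg, sylow_mem_smul]
      rw [show g⁻¹ * (g * ⟨x₀, hx₀.2⟩ * g⁻¹) * g = (⟨x₀, hx₀.2⟩ : J) by group]
      exact (hP _).2 hx₀.1
    set t := (p : X)⁻¹ * s with ht
    have htS : t ∈ (S : Subgroup X) := mul_mem (inv_mem ((hP p).1 hp)) hs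
    have htd : t * d * t⁻¹ ∈ (T : Subgroup X) := by
      refine (hR ⟨t * d * t⁻¹, ‹J.Normal›.conj_mem d hd.2 t⟩).1 ?_
      have h1 : (⟨s * d * s⁻¹, ‹J.Normal›.conj_mem d hd.2 s⟩ : J) ∈ (R' : Subgroup J) :=
        (hR' _).2 ⟨⟨d, hd.2⟩, (hR _).2 hd.1, rfl⟩
      rw [← hpR, sylow_mem_smul] at h1
      convert h1 using 1
      exact Subtype.ext (by rw [ht]; push_cast; group)
    obtain ⟨g, hg⟩ := MulAction.exists_smul_eq X S T
    have key : ∀ w ∈ (T : Subgroup X), orderOf w = 2 → w ≠ a → ∀ R : Sylow 2 X, w ∈ (R : Subgroup X) → R = T := by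
      intro w hw hw2 hwa R hwR
      have hw' : g⁻¹ * w * g ∈ (S : Subgroup X) := sylow_mem_smul.1 (hg.symm ▸ hw)
      have h3 := c.uniq _ hw' (by rw [show g⁻¹ * w * g = g⁻¹ * w * g⁻¹⁻¹ by group, orderOf_conj', hw2])
        (fun e => hwa (by
          calc w = g * (g⁻¹ * w * g) * g⁻¹ := by group
            _ = g * a * g⁻¹ := by rw [e]
            _ = a := by rw [← c.comm_a g, mul_inv_cancel_right]))
        (g⁻¹ • R) (sylow_mem_smul.2 (by rw [show g⁻¹⁻¹ * (g⁻¹ * w * g) * g⁻¹ = w by group]; exact hwR))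
      rw [← hg, ← h3, smul_inv_smul]
    have htN : t ∈ normalizer ((T : Subgroup X) : Set X) := Sylow.smul_eq_iff_mem_normalizer.1
      (key _ htd (by rw [orderOf_conj', hd2]) (fun e => hda (by
        calc d = t⁻¹ * (t * d * t⁻¹) * t := by group
          _ = t⁻¹ * a * t := by rw [e]
          _ = a := by rw [mul_assoc, c.comm_a t, inv_mul_cancel_left])) (t • T)
        (sylow_mem_smul.2 (by rw [show t⁻¹ * (t * d * t⁻¹) * t = d by group]; exact hd.1)))
    exact le_sup_right.trans (sylow_eq_of_le (T.2.to_sup_of_normal_left' (S.2.to_le (zpowers_le.2 htS))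
      (zpowers_le.2 htN)) le_sup_left).le (mem_zpowers t)
  let U : Subgroup X := (S : Subgroup X) ⊓ (T : Subgroup X)
  have hcardS : Nat.card (S : Subgroup X) = Nat.card ((S : Subgroup X) ⊓ J : Subgroup X) * Nat.card U := by
    rw [← Nat.card_prod]
    refine (Nat.card_eq_of_bijective (fun q : ((S : Subgroup X) ⊓ J : Subgroup X) × U =>
      (⟨(q.1 : X) * q.2, mul_mem q.1.2.1 q.2.2.1⟩ : (S : Subgroup X))) ⟨fun q q' e => ?_, fun s => ?_⟩).symm
    · have e' : (q.1 : X) * q.2 = q'.1 * q'.2 := congrArg Subtype.val e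
      have h1 : ((q'.1 : X))⁻¹ * q.1 = q'.2 * (q.2 : X)⁻¹ := by
        rw [eq_mul_inv_iff_mul_eq, mul_assoc, e', inv_mul_cancel_left]
      have h2 := hdis _ (mul_mem (inv_mem (Subgroup.mem_inf.1 q'.1.2).1) q.1.2.1) (h1 ▸ mul_mem q'.2.2.2 (inv_mem q.2.2.2))
        (mul_mem (inv_mem (Subgroup.mem_inf.1 q'.1.2).2) q.1.2.2)
      have h3 : (q.1 : X) = q'.1 := (inv_mul_eq_one.1 h2).symm
      exact Prod.ext (Subtype.ext h3) (Subtype.ext (mul_left_cancel (h3 ▸ e')))
    · obtain ⟨p, hp, hpt⟩ := hsplit s s.2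
      exact ⟨(⟨p, hp⟩, ⟨p⁻¹ * s, Subgroup.mul_mem _ (Subgroup.inv_mem _ hp.1) s.2, hpt⟩), Subtype.ext (by simp)⟩
  -- `U` is not abelian
  have hU : ¬ IsMulCommutative U := fun hc => by
    haveI hPn : (((S : Subgroup X) ⊓ J).subgroupOf (S : Subgroup X)).Normal := by
      rw [inf_subgroupOf_left]; infer_instance
    have hle : ⁅(S : Subgroup X), (S : Subgroup X)⁆ ≤ J := by
      refine commutator_le.2 fun s hs s' hs' => ?_
      obtain ⟨p, hp, hpt⟩ := hsplit s hs
      obtain ⟨p', hp', hpt'⟩ := hsplit s' hs'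
      rw [← QuotientGroup.eq_one_iff (N := J)]
      show QuotientGroup.mk' J ⁅s, s'⁆ = 1
      have e1 : QuotientGroup.mk' J s = QuotientGroup.mk' J (p⁻¹ * s) := by
        rw [map_mul, map_inv, show QuotientGroup.mk' J p = 1 from (QuotientGroup.eq_one_iff p).2 hp.2, inv_one, one_mul]
      have e2 : QuotientGroup.mk' J s' = QuotientGroup.mk' J (p'⁻¹ * s') := by
        rw [map_mul, map_inv, show QuotientGroup.mk' J p' = 1 from (QuotientGroup.eq_one_iff p').2 hp'.2, inv_one,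
          one_mul]
      rw [map_commutatorElement, e1, e2, ← map_commutatorElement, commutatorElement_eq_one_iff_commute.2 ?_, map_one]
      exact congrArg Subtype.val (hc.is_comm.comm (⟨p⁻¹ * s, Subgroup.mul_mem _ (Subgroup.inv_mem _ hp.1) hs, hpt⟩ : U)
        ⟨p'⁻¹ * s', Subgroup.mul_mem _ (Subgroup.inv_mem _ hp'.1) hs', hpt'⟩)
    exact haJ (hle (c.derived a c.mem c.invol))
  have hU8 : 8 ≤ Nat.card U := by
    haveI : Fact (Nat.Prime 2) := ⟨Nat.prime_two⟩
    obtain ⟨k, hk⟩ := IsPGroup.iff_card.1 (S.2.to_le (inf_le_left : U ≤ S))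
    by_contra h8
    rcases k with _ | _ | _ | k
    · haveI : Subsingleton U := (Nat.card_eq_one_iff_unique.1 (hk.trans (pow_zero 2))).1
      exact hU ⟨⟨fun p q => Subsingleton.elim _ _⟩⟩
    · haveI : IsCyclic U := isCyclic_of_prime_card (p := 2) (hk.trans (pow_one 2))
      exact hU IsCyclic.isMulCommutative
    · exact hU (IsPGroup.isMulCommutative_of_card_eq_prime_sq (p := 2) hk)
    · rw [hk, pow_succ, pow_succ, pow_succ] at h8
      have : 0 < 2 ^ k := by positivity
      omega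
  -- the counts
  set Q := ((S : Subgroup X) ⊓ J : Subgroup X) with hQ
  have hroot : ∀ z ∈ Q, orderOf z = 2 →
      Nat.card {s : (S : Subgroup X) // (s : X) * s = z} = Nat.card {y : Q // (y : X) * y = z} * 2 := by
    intro z hz hz2
    rw [show Nat.card {y : Q // (y : X) * y = z} * 2 = Nat.card ({y : Q // (y : X) * y = z} × Bool) by
      rw [Nat.card_prod]; simp]
    refine (Nat.card_eq_of_bijective (fun q : {y : Q // (y : X) * y = z} × Bool =>
      (⟨⟨(q.1.1 : X) * (if q.2 then a else 1), mul_mem q.1.1.2.1 (by split <;> [exact c.mem; exact one_mem _])⟩, by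
        rcases q with ⟨y, _ | _⟩
        · simpa using y.2
        · show ((y.1 : X) * a) * ((y.1 : X) * a) = z
          rw [mul_assoc, ← mul_assoc a, c.comm_a, mul_assoc _ a a, haa, mul_one]; exact y.2⟩ :
        {s : (S : Subgroup X) // (s : X) * s = z})) ⟨fun q q' e => ?_, fun s => ?_⟩).symm
    · obtain ⟨y, b⟩ := q
      obtain ⟨y', b'⟩ := q'
      have e' : (y.1 : X) * (if b then a else 1) = y'.1 * (if b' then a else 1) :=
        congrArg (fun w : {s : (S : Subgroup X) // (s : X) * s = z} => ((w.1 : (S : Subgroup X)) : X)) e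
      have hab : b = b' := by
        by_contra hne
        refine haJ ?_
        rcases b with _ | _ <;> rcases b' with _ | _ <;> simp at hne e'
        · rw [show a = (y'.1 : X)⁻¹ * y.1 by rw [e']; group]; exact mul_mem (inv_mem (Subgroup.mem_inf.1 y'.1.2).2) y.1.2.2
        · rw [show a = (y.1 : X)⁻¹ * y'.1 by rw [← e']; group]; exact mul_mem (inv_mem (Subgroup.mem_inf.1 y.1.2).2) y'.1.2.2
      subst hab
      exact Prod.ext (Subtype.ext (Subtype.ext (mul_right_cancel e'))) rfl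
    · obtain ⟨p, hp, hpt⟩ := hsplit s.1 s.1.2
      set t := p⁻¹ * (s.1 : X) with ht
      have htt' : t * t = 1 := by
        refine hdis _ (mul_mem (mul_mem (inv_mem (Subgroup.mem_inf.1 hp).1) s.1.2) (mul_mem (inv_mem (Subgroup.mem_inf.1 hp).1) s.1.2)) (mul_mem hpt hpt) ?_
        have e1 : QuotientGroup.mk' J (t * t) = QuotientGroup.mk' J ((s.1 : X) * s.1) := by
          rw [ht, map_mul, map_mul, map_mul, map_inv, show QuotientGroup.mk' J p = 1 from
            (QuotientGroup.eq_one_iff p).2 hp.2, inv_one, one_mul]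
        rw [← QuotientGroup.eq_one_iff (N := J)]
        show QuotientGroup.mk' J (t * t) = 1
        rw [e1, s.2]
        exact (QuotientGroup.eq_one_iff z).2 hz.2
      have htc : t = 1 ∨ t = a := by
        by_cases h1 : t = 1
        · exact Or.inl h1
        · refine Or.inr (by_contra fun hne => hT (c.uniq t (mul_mem (inv_mem (Subgroup.mem_inf.1 hp).1) s.1.2) (order_of_mul_self htt' h1)
            hne T hpt))
      have hs : (s.1 : X) = p * t := by rw [ht]; group
      rcases htc with e | e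
      · rw [e, mul_one] at hs
        exact ⟨(⟨⟨p, hp⟩, by show p * p = z; rw [← hs]; exact s.2⟩, false), Subtype.ext (Subtype.ext (by simp [hs]))⟩
      · rw [e] at hs
        refine ⟨(⟨⟨p, hp⟩, ?_⟩, true), Subtype.ext (Subtype.ext (by simp [hs]))⟩
        show p * p = z
        have h2 := s.2
        rw [hs, mul_assoc p a, ← mul_assoc a p a, c.comm_a p, mul_assoc p a a, haa, mul_one] at h2
        exact h2
  obtain ⟨z₀, hz₀⟩ : ∃ z₀ : Q, (z₀ : X) = x₀ := ⟨⟨x₀, hx₀⟩, rfl⟩
  set r := Nat.card {y : Q // (y : X) * y = x₀} with hr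
  have h1 := card_squares (Q := Q) (fun y => Subtype.ext (c.sq y y.2.1)) r fun x hx => by
    rw [← Subgroup.orderOf_coe] at hx
    have e1 : Nat.card {y : Q // y * y = x} = Nat.card {y : Q // (y : X) * y = x} :=
      Nat.card_congr (Equiv.subtypeEquivRight fun y => Subtype.ext_iff)
    have e2 := hroot x x.2 hx
    rw [c.roots x x.2.1 hx x₀ hx₀.1 hx₀2, hroot x₀ hx₀ hx₀2] at e2
    rw [e1, hr]
    omega
  have h2 := card_squares (Q := (S : Subgroup X)) (fun y => Subtype.ext (c.sq y y.2)) (r * 2) fun x hx => by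
    rw [← Subgroup.orderOf_coe] at hx
    rw [Nat.card_congr (Equiv.subtypeEquivRight fun (y : (S : Subgroup X)) => Subtype.ext_iff :
      {y : (S : Subgroup X) // y * y = x} ≃ {y : (S : Subgroup X) // (y : X) * y = x}),
      c.roots x x.2 hx x₀ hx₀.1 hx₀2, hroot x₀ hx₀ hx₀2]
  let I := {x : Q // orderOf x = 2}
  have hI : Nat.card {x : (S : Subgroup X) // orderOf x = 2} = 2 * Nat.card I + 1 := by
    rw [two_mul, ← Nat.card_sum, ← Finite.card_option]
    have mk : ∀ y : X, (hy : y ∈ (S : Subgroup X)) → orderOf y = 2 →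
        orderOf (⟨y, hy⟩ : (S : Subgroup X)) = 2 := fun y hy h => by rw [Subgroup.orderOf_mk]; exact h
    have hxa : ∀ i : I, orderOf ((i.1 : X) * a) = 2 := fun i => by
      refine order_of_mul_self ?_ fun e => haJ ?_
      · rw [mul_assoc, ← mul_assoc a, c.comm_a, mul_assoc _ a a, haa, mul_one]
        exact mul_self_of_order (by rw [Subgroup.orderOf_coe]; exact i.2)
      · rw [eq_inv_of_mul_eq_one_right e]; exact inv_mem (Subgroup.mem_inf.1 i.1.2).2
    refine (Nat.card_eq_of_bijective (fun o : Option (I ⊕ I) => (match o with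
      | none => ⟨⟨a, c.mem⟩, mk a c.mem c.invol⟩
      | some (Sum.inl i) => ⟨⟨i.1, i.1.2.1⟩, mk _ i.1.2.1 (by rw [Subgroup.orderOf_coe]; exact i.2)⟩
      | some (Sum.inr i) => ⟨⟨(i.1 : X) * a, mul_mem i.1.2.1 c.mem⟩, mk _ _ (hxa i)⟩ :
        {x : (S : Subgroup X) // orderOf x = 2})) ⟨?_, ?_⟩).symm
    · rintro (_ | i | i) (_ | i' | i') e <;>
        have e' := congrArg (fun w : {x : (S : Subgroup X) // orderOf x = 2} => ((w.1 : (S : Subgroup X)) : X)) e <;>
        simp at e'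
      · rfl
      · exact absurd (e' ▸ i'.1.2.2) haJ
      · exact absurd e' fun h => ne_one_of_order (by rw [Subgroup.orderOf_coe]; exact i'.2 : orderOf (i'.1 : X) = 2)
          (by simpa using h)
      · exact absurd (e'.symm ▸ i.1.2.2) haJ
      · exact congrArg (fun w => some (Sum.inl w)) (Subtype.ext e')
      · exact absurd (by rw [show a = (i'.1 : X)⁻¹ * i.1 by rw [e']; group]; exact mul_mem (inv_mem (Subgroup.mem_inf.1 i'.1.2).2) i.1.2.2) haJ
      · exact absurd e' fun h => ne_one_of_order (by rw [Subgroup.orderOf_coe]; exact i.2 : orderOf (i.1 : X) = 2)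
          (by simpa using h)
      · exact absurd (by rw [show a = (i.1 : X)⁻¹ * i'.1 by rw [← e']; group]; exact mul_mem (inv_mem (Subgroup.mem_inf.1 i.1.2).2) i'.1.2.2) haJ
      · exact congrArg (fun w => some (Sum.inr w)) (Subtype.ext e')
    · rintro ⟨⟨y, hy⟩, hy2⟩
      rw [Subgroup.orderOf_mk] at hy2
      by_cases hya : y = a
      · exact ⟨none, Subtype.ext (Subtype.ext hya.symm)⟩
      rcases c.mem_or hJ hy hy2 hya with hyJ | hyJ
      · exact ⟨some (Sum.inl ⟨⟨y, hy, hyJ⟩, by rw [← Subgroup.orderOf_coe]; exact hy2⟩), rfl⟩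
      · refine ⟨some (Sum.inr ⟨⟨y * a, mul_mem hy c.mem, hyJ⟩, ?_⟩), Subtype.ext (Subtype.ext ?_)⟩
        · rw [← Subgroup.orderOf_coe]
          refine order_of_mul_self ?_ fun e => hya ?_
          · rw [mul_assoc, ← mul_assoc a, c.comm_a, mul_assoc _ a a, haa, mul_one]; exact mul_self_of_order hy2
          · rw [eq_inv_of_mul_eq_one_left e, inv_eq_of_mul_eq_one_right haa]
        · show y * a * a = y
          rw [mul_assoc, haa, mul_one]
  have hm : 1 ≤ Nat.card I := Nat.card_pos_iff.2 ⟨⟨⟨z₀, by rw [← Subgroup.orderOf_coe, hz₀]; exact hx₀2⟩⟩,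
    inferInstance⟩
  rw [hcardS, h1, hI] at h2
  set m := Nat.card I
  set U' := Nat.card U
  nlinarith [Nat.mul_le_mul_left (m + 1 + m * r) hU8, Nat.mul_le_mul_right r hm]

/-- The component exists only with sixteen elements of square one in `S`. -/
theorem Loc.sixteen (crit : SECrit.Crit.{u}) :
    Nat.card {s : (S : Subgroup X) // (s : X) * s = 1} = 16 := by
  haveI := c.comp_normal' hJ
  have haJ := c.a_mem hJ
  have haa := mul_self_of_order c.invol
  have hall : ∀ y ∈ (S : Subgroup X), orderOf y = 2 → y ∈ J := fun y hy hy2 => by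
    by_cases hya : y = a
    · exact hya ▸ haJ
    rcases c.mem_or hJ hy hy2 hya with h | h
    · exact h
    · rw [show y = y * a * a by rw [mul_assoc, haa, mul_one]]; exact mul_mem h haJ
  suffices hgen : ∀ Z : Subgroup J, ∀ [Z.Normal], Z = Subgroup.center J →
      Nat.card {s : (S : Subgroup X) // (s : X) * s = 1} = 16 from hgen _ rfl
  intro Z _ hZ
  haveI : IsSimpleGroup (J ⧸ Z) := by subst hZ; exact hJ.2.2
  have hna : ¬ IsMulCommutative (J ⧸ Z) := by subst hZ; exact quotient_center_nonab hJ.2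
  have hZc : Z ≤ Subgroup.center J := hZ.le
  have hZ2 : IsPGroup 2 Z := hZ ▸ comp_center_two hJ c.core
  have haZ : (⟨a, haJ⟩ : J) ∈ Z := hZ ▸ Subgroup.mem_center_iff.2 fun j => Subtype.ext (c.comm_a j).symm
  have hZne : Z ≠ ⊥ := fun e => by
    rw [e, mem_bot] at haZ
    exact ne_one_of_order c.invol (congrArg Subtype.val haZ)
  obtain ⟨P, hPe⟩ := (comp_sylIn hJ S).exists_sylow_subgroupOf
  have hP : ∀ y : J, y ∈ (P : Subgroup J) ↔ (y : X) ∈ (S : Subgroup X) := fun y => by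
    rw [hPe, mem_subgroupOf]; exact ⟨fun h => h.1, fun h => ⟨h, y.2⟩⟩
  obtain ⟨π, hπ⟩ : ∃ π, π = QuotientGroup.mk' Z := ⟨_, rfl⟩
  have hπs : Function.Surjective π := hπ ▸ QuotientGroup.mk'_surjective Z
  have hker : ∀ y : J, π y = 1 ↔ y ∈ Z := fun y => hπ ▸ QuotientGroup.eq_one_iff y
  have hZP : Z ≤ (P : Subgroup J) := hZ2.le_sylow_of_normal P
  set P' := Sylow.mapSurjective hπs P with hP'
  have hPm : ∀ y : J, π y ∈ (P' : Subgroup (J ⧸ Z)) ↔ y ∈ (P : Subgroup J) := fun y => by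
    rw [hP', Sylow.coe_mapSurjective]
    refine ⟨fun hy => ?_, fun hy => mem_map_of_mem π hy⟩
    rw [← comap_map_eq_self (f := π) (H := (P : Subgroup J)) (fun w hw => hZP ((hker w).1 hw))]
    exact hy
  obtain ⟨x, hx, hx2, hxa⟩ := c.exists_in_comp hJ
  -- images of the involutions
  have himg : ∀ (y : X) (hy : y ∈ J), y ∈ (S : Subgroup X) → orderOf y = 2 → y ≠ a → orderOf (π ⟨y, hy⟩) = 2 := by
    intro y hy hyS hy2 hya
    refine order_of_mul_self ?_ fun e => hya ?_
    · rw [← map_mul, show (⟨y, hy⟩ : J) * ⟨y, hy⟩ = 1 from Subtype.ext (mul_self_of_order hy2), map_one]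
    · have h1 := (hker _).1 e
      rw [hZ] at h1
      exact c.center_invol hJ hy h1 hy2
  have hmove : ∀ (y : X) (hy : y ∈ J), y ∈ (S : Subgroup X) → orderOf y = 2 → y ≠ a → ∀ h : J,
      π (h * ⟨y, hy⟩ * h⁻¹) ∈ (P' : Subgroup (J ⧸ Z)) → π h ∈ normalizer ((P' : Subgroup (J ⧸ Z)) : Set (J ⧸ Z)) := by
    intro y hy hyS hy2 hya h hh
    have h1 := c.norm_trace hJ hyS hy2 hya h.2 ((hP _).1 ((hPm _).1 hh))
    refine mem_normalizer_fintype fun w hw => ?_
    obtain ⟨w, rfl⟩ := hπs w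
    have hw' := (hP w).1 ((hPm w).1 hw)
    rw [← map_inv, ← map_mul, ← map_mul]
    exact (hPm _).2 ((hP _).2 ((mem_normalizer_iff.1 h1 w).1 ⟨hw', w.2⟩).1)
  have hinN : ∀ w : J ⧸ Z, orderOf w = 2 → w ∈ normalizer ((P' : Subgroup (J ⧸ Z)) : Set (J ⧸ Z)) →
      w ∈ (P' : Subgroup (J ⧸ Z)) := fun w hw hn =>
    (sylow_eq_of_le (P'.2.to_sup_of_normal_left'
      (IsPGroup.of_card (n := 1) (by rw [Nat.card_zpowers, hw, pow_one])) (zpowers_le.2 hn)) le_sup_left).le
        (mem_sup_right (mem_zpowers w))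
  set z := π ⟨x, hx.2⟩ with hz
  have hzP : z ∈ (P' : Subgroup (J ⧸ Z)) := (hPm _).2 ((hP _).2 hx.1)
  have hz2 : orderOf z = 2 := himg x hx.2 hx.1 hx2 hxa
  obtain ⟨H, hH⟩ := SECrit.pair_simple_concl crit (normalizer ((P' : Subgroup (J ⧸ Z)) : Set (J ⧸ Z))) (fun htop => by
      refine comp_not_norm hJ S fun j hj => mem_normalizer_fintype fun y hy => ?_
      haveI : (P' : Subgroup (J ⧸ Z)).Normal := normalizer_eq_top_iff.1 htop
      have h1 := ‹(P' : Subgroup (J ⧸ Z)).Normal›.conj_mem (π ⟨y, hy.2⟩) ((hPm _).2 ((hP _).2 hy.1)) (π ⟨j, hj⟩)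
      rw [← map_inv, ← map_mul, ← map_mul] at h1
      exact ⟨(hP _).1 ((hPm _).1 h1), J.mul_mem (J.mul_mem hj hy.2) (J.inv_mem hj)⟩)
    z hz2 (le_normalizer hzP) ⟨P', hzP, fun s hs => by
      obtain ⟨s, rfl⟩ := hπs s
      exact Commute.map (show Commute s (⟨x, hx.2⟩ : J) from
        Subtype.ext (c.cen x hx.1 hx2 s ((hP s).1 ((hPm s).1 hs))).eq) π⟩
    (fun g hg => by
      obtain ⟨g, rfl⟩ := hπs g
      have h2 := hinN _ (by rw [orderOf_conj', hz2]) hg
      rw [hz, ← map_inv, ← map_mul, ← map_mul] at h2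
      exact hmove x hx.2 hx.1 hx2 hxa g h2)
    (fun g hcm hne => by
      obtain ⟨g, rfl⟩ := hπs g
      have hg2 : orderOf (π g * z * (π g)⁻¹) = 2 := by rw [orderOf_conj', hz2]
      have hN : π g * z * (π g)⁻¹ ∈ normalizer ((P' : Subgroup (J ⧸ Z)) : Set (J ⧸ Z)) := by
        obtain ⟨h, hh⟩ := hπs (π g * z * (π g)⁻¹)
        rw [← hh] at hcm ⊢
        refine hmove x hx.2 hx.1 hx2 hxa h ?_
        rw [map_mul, map_mul, map_inv, ← hz, ← hcm.eq, mul_inv_cancel_right]
        exact hzP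
      have h2 := hinN _ hg2 hN
      rw [hz, ← map_inv, ← map_mul, ← map_mul] at h2 hcm hne ⊢
      set w := g * ⟨x, hx.2⟩ * g⁻¹ with hw
      have hwS := (hP _).1 ((hPm _).1 h2)
      have hw2 : orderOf (w : X) = 2 := by
        rw [hw, Subgroup.coe_mul, Subgroup.coe_mul, Subgroup.coe_inv, orderOf_conj', hx2]
      have hu : orderOf (x * (w : X)) = 2 := by
        refine order_of_mul_self ?_ fun e => hne (congrArg π (Subtype.ext ?_))
        · have hxw : Commute x (w : X) := c.cen w hwS hw2 x hx.1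
          rw [mul_assoc, ← mul_assoc (w : X), ← hxw.eq, mul_assoc x (w : X) w, mul_self_of_order hw2, mul_one,
            mul_self_of_order hx2]
        · show (w : X) = x
          rw [eq_inv_of_mul_eq_one_right e, inv_eq_of_mul_eq_one_right (mul_self_of_order hx2)]
      have hua : x * (w : X) ≠ a := fun e => hne (by
        have h1 : π (⟨x, hx.2⟩ * w) = 1 := by
          rw [show (⟨x, hx.2⟩ : J) * w = ⟨a, haJ⟩ from Subtype.ext e]; exact (hker _).2 haZ
        rw [map_mul] at h1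
        rw [eq_inv_of_mul_eq_one_right h1,
          inv_eq_of_mul_eq_one_right (show π ⟨x, hx.2⟩ * π ⟨x, hx.2⟩ = 1 by
            rw [← map_mul, show (⟨x, hx.2⟩ : J) * ⟨x, hx.2⟩ = 1 from Subtype.ext (mul_self_of_order hx2), map_one])])
      intro q hq
      obtain ⟨q, rfl⟩ := hπs q
      refine hmove (x * w) (mul_mem hx.2 w.2) (mul_mem hx.1 hwS) hu hua q ?_
      rw [map_mul, map_mul, map_inv,
        show π ⟨x * (w : X), mul_mem hx.2 w.2⟩ = π ⟨x, hx.2⟩ * π w by rw [← map_mul]; rfl,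
        mem_centralizer_singleton_iff.1 hq, mul_inv_cancel_right]
      exact mul_mem hzP h2)
  -- every involution of `P'` comes from an involution of `S`
  have hlift : ∀ w ∈ (P' : Subgroup (J ⧸ Z)), orderOf w = 2 →
      ∃ (y : X) (hy : y ∈ J), y ∈ (S : Subgroup X) ∧ orderOf y = 2 ∧ π ⟨y, hy⟩ = w := by
    intro w hw hw2
    obtain ⟨k, hk⟩ := isConj_iff.1 (one_class_se hH hz2 hw2)
    obtain ⟨k, rfl⟩ := hπs k
    rw [hz, ← map_inv, ← map_mul, ← map_mul] at hk
    refine ⟨_, (k * ⟨x, hx.2⟩ * k⁻¹).2, (hP _).1 ((hPm _).1 (hk ▸ hw)), ?_, hk⟩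
    rw [Subgroup.coe_mul, Subgroup.coe_mul, Subgroup.coe_inv, orderOf_conj', hx2]
  rcases cover_cases (comp_perfect hJ) hZc hZ2 hZne hna hH P' with ⟨h4, hab⟩ | ⟨-, hcd, h8, hsq⟩
  · exfalso
    -- `P` would be abelian
    have hsq : ∀ w ∈ (P' : Subgroup (J ⧸ Z)), w * w = 1 := by
      intro w hw
      by_contra hne
      haveI : Fact (Nat.Prime 2) := ⟨Nat.prime_two⟩
      have ho : orderOf (⟨w, hw⟩ : (P' : Subgroup (J ⧸ Z))) = 4 := by
        have hd : orderOf (⟨w, hw⟩ : (P' : Subgroup (J ⧸ Z))) ∣ 2 ^ 2 := by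
          rw [show 2 ^ 2 = Nat.card (P' : Subgroup (J ⧸ Z)) by rw [h4]; norm_num]
          exact orderOf_dvd_natCard _
        obtain ⟨i, hi, e⟩ := (Nat.dvd_prime_pow Nat.prime_two).1 hd
        rw [Subgroup.orderOf_mk] at e ⊢
        interval_cases i
        · exact absurd (by rw [orderOf_eq_one_iff.1 e, one_mul]) hne
        · exact absurd (by rw [← pow_two, ← pow_one 2, ← e]; exact pow_orderOf_eq_one w) hne
        · rw [e]; norm_num
      rw [Subgroup.orderOf_mk] at ho
      -- then `z` is the square of `w`, and it lifts to a square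
      have htop : zpowers (⟨w, hw⟩ : (P' : Subgroup (J ⧸ Z))) = ⊤ :=
        eq_top_of_le_card _ (by rw [Nat.card_zpowers, Subgroup.orderOf_mk, ho, h4])
      obtain ⟨w', rfl⟩ := hπs w
      refine hZne ?_
      refine (Subgroup.eq_bot_iff_forall _).2 fun v hv => ?_
      have hPab : IsMulCommutative (P : Subgroup J) := by
        refine ⟨⟨fun p q => Subtype.ext ?_⟩⟩
        have hgen : ∀ p ∈ (P : Subgroup J), ∃ i : ℤ, (w' ^ i)⁻¹ * p ∈ Z := fun p hp => by
          obtain ⟨i, hi⟩ := mem_zpowers_iff.1 (htop.ge (mem_top (⟨π p, (hPm p).2 hp⟩ : (P' : Subgroup (J ⧸ Z)))))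
          exact ⟨i, (hker _).1 (by rw [map_mul, map_inv, map_zpow,
            show π w' ^ i = π p from congrArg Subtype.val hi, inv_mul_cancel])⟩
        obtain ⟨i, hi⟩ := hgen p p.2
        obtain ⟨k, hk⟩ := hgen q q.2
        show (p : J) * q = q * p
        rw [show (p : J) = w' ^ i * ((w' ^ i)⁻¹ * p) by group, show (q : J) = w' ^ k * ((w' ^ k)⁻¹ * q) by group]
        exact Commute.mul_left (Commute.mul_right (Commute.zpow_zpow_self _ i k) (Subgroup.mem_center_iff.1 (hZc hk) _))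
          (Subgroup.mem_center_iff.1 (hZc hi) _).symm
      have := mem_commutator_sylow (comp_perfect hJ) (hZc hv) P (hZP hv)
      rw [show commutator (P : Subgroup J) = ⊥ from by
        haveI := hPab
        rw [_root_.commutator_def, commutator_eq_bot_iff_le_centralizer]
        exact fun a _ => mem_centralizer_iff.2 fun b _ => IsMulCommutative.is_comm.comm b a, mem_bot] at this
      exact congrArg Subtype.val this
    have hgen : ∀ p : J, p ∈ (P : Subgroup J) → ∃ y : J, (∀ s : J, s ∈ (P : Subgroup J) → Commute s y) ∧ y⁻¹ * p ∈ Z := by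
      intro p hp
      by_cases h1 : π p = 1
      · exact ⟨1, fun s _ => Commute.one_right s, by rw [inv_one, one_mul]; exact (hker p).1 h1⟩
      obtain ⟨y, hy, hyS, hy2, e⟩ := hlift _ ((hPm p).2 hp) (order_of_mul_self (hsq _ ((hPm p).2 hp)) h1)
      exact ⟨⟨y, hy⟩, fun s hs => Subtype.ext (c.cen y hyS hy2 s ((hP s).1 hs)).eq,
        (hker _).1 (by rw [map_mul, map_inv, e, inv_mul_cancel])⟩
    have hPab : ∀ p q : J, p ∈ (P : Subgroup J) → q ∈ (P : Subgroup J) → Commute p q := fun p q hp hq => by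
      obtain ⟨y, hy, hyp⟩ := hgen p hp
      rw [show p = y * (y⁻¹ * p) by group]
      exact Commute.mul_left (hy q hq).symm (Subgroup.mem_center_iff.1 (hZc hyp) q).symm
    have := mem_commutator_sylow (comp_perfect hJ) (hZc haZ) P ((hP _).2 c.mem)
    rw [show commutator (P : Subgroup J) = ⊥ from by
      rw [_root_.commutator_def, commutator_eq_bot_iff_le_centralizer]
      exact fun a _ => mem_centralizer_iff.2 fun b _ => Subtype.ext (hPab b a b.2 a.2).eq, mem_bot] at this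
    exact ne_one_of_order c.invol (congrArg (fun w : (P : Subgroup J) => ((w : J) : X)) this)
  -- the sixteen elements
  let A : Subgroup X :=
    { carrier := {s | s ∈ (S : Subgroup X) ∧ s * s = 1}
      one_mem' := ⟨one_mem _, one_mul 1⟩
      mul_mem' := fun {p q} hp hq => ⟨mul_mem hp.1 hq.1, by
        by_cases hq1 : q = 1
        · rw [hq1, mul_one]; exact hp.2
        have hcm : Commute p q := c.cen q hq.1 (order_of_mul_self hq.2 hq1) p hp.1
        rw [mul_assoc, ← mul_assoc q, ← hcm.eq, mul_assoc p q q, hq.2, mul_one, hp.2]⟩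
      inv_mem' := fun {p} hp => ⟨inv_mem hp.1, by rw [← mul_inv_rev, hp.2, inv_one]⟩ }
  have hAJ : ∀ s : A, (s : X) ∈ J := fun s => by
    by_cases h : (s : X) = 1
    · rw [h]; exact one_mem _
    · exact hall _ s.2.1 (order_of_mul_self s.2.2 h)
  have hcen : ∀ s : A, (⟨π ⟨s, hAJ s⟩, (hPm _).2 ((hP _).2 s.2.1)⟩ : (P' : Subgroup (J ⧸ Z))) ∈
      Subgroup.center (P' : Subgroup (J ⧸ Z)) := by
    intro s
    refine Subgroup.mem_center_iff.2 ?_
    rintro ⟨w, hw⟩
    obtain ⟨w, rfl⟩ := hπs w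
    refine Subtype.ext ((Commute.map (show Commute w (⟨s, hAJ s⟩ : J) from Subtype.ext ?_) π).eq)
    show (w : X) * s = s * w
    by_cases h : (s : X) = 1
    · rw [h, mul_one, one_mul]
    · exact (c.cen s s.2.1 (order_of_mul_self s.2.2 h) w ((hP w).1 ((hPm w).1 hw))).eq
  let φ : A →* Subgroup.center (P' : Subgroup (J ⧸ Z)) :=
    { toFun := fun s => ⟨_, hcen s⟩
      map_one' := Subtype.ext (Subtype.ext (map_one π))
      map_mul' := fun p q => Subtype.ext (Subtype.ext (map_mul π ⟨p, hAJ p⟩ ⟨q, hAJ q⟩)) }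
  have hφs : Function.Surjective φ := by
    rintro ⟨⟨w, hw⟩, hwc⟩
    by_cases h1 : w = 1
    · exact ⟨1, by rw [map_one]; exact Subtype.ext (Subtype.ext h1.symm)⟩
    obtain ⟨y, hy, hyS, hy2, e⟩ := hlift w hw (order_of_mul_self (congrArg Subtype.val (hsq _ hwc)) h1)
    exact ⟨⟨y, hyS, mul_self_of_order hy2⟩, Subtype.ext (Subtype.ext e)⟩
  have hkerφ : φ.ker = (zpowers a).subgroupOf A := by
    ext s
    rw [MonoidHom.mem_ker, mem_subgroupOf]
    constructor
    · intro h
      have h1 : (⟨(s : X), hAJ s⟩ : J) ∈ Z :=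
        (hker _).1 (congrArg (fun w : Subgroup.center (P' : Subgroup (J ⧸ Z)) => ((w : (P' : Subgroup (J ⧸ Z))) : J ⧸ Z)) h)
      by_cases hs1 : (s : X) = 1
      · rw [hs1]; exact one_mem _
      · rw [hZ] at h1
        rw [c.center_invol hJ (hAJ s) h1 (order_of_mul_self s.2.2 hs1)]
        exact mem_zpowers a
    · intro h
      obtain ⟨i, hi⟩ := mem_zpowers_iff.1 h
      refine Subtype.ext (Subtype.ext ((hker _).2 ?_))
      rw [show (⟨(s : X), hAJ s⟩ : J) = ⟨a, haJ⟩ ^ i from Subtype.ext (by rw [Subgroup.coe_zpow]; exact hi.symm)]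
      exact zpow_mem haZ i
  have hA : Nat.card A = 16 := by
    rw [Subgroup.card_eq_card_quotient_mul_card_subgroup φ.ker,
      Nat.card_congr (QuotientGroup.quotientKerEquivOfSurjective φ hφs).toEquiv, h8, hkerφ,
      Nat.card_congr (subgroupOfEquivOfLe (show zpowers a ≤ A from zpowers_le.2 ⟨c.mem, haa⟩)).toEquiv,
      Nat.card_zpowers, c.invol]
  rw [← hA]
  exact Nat.card_congr ⟨fun s => ⟨s.1, s.1.2, s.2⟩, fun s => ⟨⟨s.1, s.2.1⟩, s.2.2⟩, fun s => rfl, fun s => rfl⟩

end Cfsg.Agent.RankOneCI
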