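import Cfsg.Agent.Lib.UFour.Data
import Mathlib.RingTheory.IntegralDomain

/-!
# Special 2-groups with four central elements of square one

If the center has four elements, contains exactly the elements of square one, equals the derived subgroup and the three
involutions are permuted transitively by automorphisms, the group has the properties of a Sylow 2-subgroup of `U₃(4)`:
all is a count with the characters of the center.
-/

set_option autoImplicit false
set_option linter.style.haveILetI false
set_option linter.unusedSectionVars false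

namespace Cfsg.Agent.RankOneCI

open Subgroup Cfsg.Agent
open scoped commutatorElement

universe u

/-- The hypotheses. -/
structure Spec (T : Type u) [Group T] : Prop where
  two : IsPGroup 2 T
  four : Nat.card (center T) = 4
  sq_one : ∀ x : T, x * x = 1 ↔ x ∈ center T
  sq_mem : ∀ x : T, x * x ∈ center T
  comm_mem : ∀ a b : T, ⁅a, b⁆ ∈ center T
  derived : commutator T = center T
  trans : ∀ v w : T, v ∈ center T → v ≠ 1 → w ∈ center T → w ≠ 1 → ∃ α : T ≃* T, α v = w

namespace Spec

variable {T : Type u} [Group T] [Finite T] (c : Spec T)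
include c

theorem zcomm {v : T} (hv : v ∈ center T) (g : T) : g * v = v * g := mem_center_iff.1 hv g

theorem comm_mul_left (a b d : T) : ⁅a * b, d⁆ = ⁅a, d⁆ * ⁅b, d⁆ := by
  calc ⁅a * b, d⁆ = a * ⁅b, d⁆ * a⁻¹ * ⁅a, d⁆ := by simp only [commutatorElement_def]; group
    _ = ⁅b, d⁆ * ⁅a, d⁆ := by rw [c.zcomm (c.comm_mem b d) a, mul_inv_cancel_right]
    _ = ⁅a, d⁆ * ⁅b, d⁆ := c.zcomm (c.comm_mem a d) _

theorem inv_z {v : T} (hv : v ∈ center T) : v⁻¹ = v := inv_eq_of_mul_eq_one_right ((c.sq_one v).2 hv)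

theorem comm_symm (a b : T) : ⁅a, b⁆ = ⁅b, a⁆ := by
  rw [← c.inv_z (c.comm_mem a b), commutatorElement_inv]

/-- The square of a product. -/
theorem sq_mul (a b : T) : a * b * (a * b) = a * a * (b * b) * ⁅a, b⁆ := by
  have h1 : ⁅a⁻¹, b⁆ = ⁅a, b⁆ := by
    have h := c.comm_mul_left a⁻¹ a b
    rw [inv_mul_cancel, commutatorElement_one_left] at h
    rw [eq_inv_of_mul_eq_one_left h.symm, c.inv_z (c.comm_mem a b)]
  calc a * b * (a * b) = a * a * ⁅a⁻¹, b⁆ * (b * b) := by simp only [commutatorElement_def]; group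
    _ = a * a * (b * b) * ⁅a, b⁆ := by rw [h1, mul_assoc, ← c.zcomm (c.comm_mem a b), ← mul_assoc]

/-- A sign on the center with kernel `{1, w}`. -/
theorem exists_sign {w : T} (hw : w ∈ center T) (hw1 : w ≠ 1) :
    ∃ ε : center T →* ℤ, ∀ v : center T, (ε v = 1 ∨ ε v = -1) ∧ (ε v = 1 ↔ (v : T) = 1 ∨ (v : T) = w) := by
  classical
  have ho : orderOf (⟨w, hw⟩ : center T) = 2 := orderOf_eq_prime (Subtype.ext (by
    show w ^ 2 = 1
    rw [pow_two, c.sq_one]; exact hw)) fun e => hw1 (congrArg Subtype.val e)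
  set K : Subgroup (center T) := zpowers ⟨w, hw⟩ with hK
  have hi : K.index = 2 := by
    have h := K.card_mul_index
    rw [hK] at h ⊢
    rw [Nat.card_zpowers, ho, c.four] at h
    omega
  have hmem : ∀ v : center T, v ∈ K ↔ (v : T) = 1 ∨ (v : T) = w := by
    intro v
    constructor
    · intro hv
      obtain ⟨i, hi⟩ := mem_zpowers_iff.1 hv
      rcases Int.even_or_odd i with ⟨k, rfl⟩ | ⟨k, rfl⟩
      · refine Or.inl ?_
        rw [← hi, ← two_mul, zpow_mul, show ((⟨w, hw⟩ : center T)) ^ (2 : ℤ) = 1 by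
          rw [show (2 : ℤ) = ((2 : ℕ) : ℤ) from rfl, zpow_natCast, ← ho, pow_orderOf_eq_one], one_zpow]
        rfl
      · refine Or.inr ?_
        rw [← hi, zpow_add_one, zpow_mul, show ((⟨w, hw⟩ : center T)) ^ (2 : ℤ) = 1 by
          rw [show (2 : ℤ) = ((2 : ℕ) : ℤ) from rfl, zpow_natCast, ← ho, pow_orderOf_eq_one], one_zpow, one_mul]
    · rintro (h | h)
      · rw [show v = 1 from Subtype.ext h]; exact one_mem _
      · rw [show v = ⟨w, hw⟩ from Subtype.ext h]; exact mem_zpowers _
  refine ⟨{ toFun := fun v => if v ∈ K then 1 else -1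
            map_one' := if_pos (one_mem K)
            map_mul' := fun v v' => ?_ }, fun v => ?_⟩
  · have h := mul_mem_iff_of_index_two hi (a := v) (b := v')
    by_cases h1 : v ∈ K <;> by_cases h2 : v' ∈ K <;> simp [h, h1, h2]
  · show ((if v ∈ K then (1 : ℤ) else -1) = 1 ∨ _) ∧ ((if v ∈ K then (1 : ℤ) else -1) = 1 ↔ _)
    by_cases h : v ∈ K
    · exact ⟨Or.inl (if_pos h), by rw [if_pos h]; exact iff_of_true rfl ((hmem v).1 h)⟩
    · exact ⟨Or.inr (if_neg h), by rw [if_neg h]; exact iff_of_false (by norm_num) fun h' => h ((hmem v).2 h')⟩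

/-- The square in the center. -/
def q (x : T) : center T := ⟨x * x, c.sq_mem x⟩

/-- The commutator with a given element. -/
def br (x : T) : T →* center T where
  toFun y := ⟨⁅y, x⁆, c.comm_mem y x⟩
  map_one' := Subtype.ext (commutatorElement_one_left x)
  map_mul' y z := Subtype.ext (c.comm_mul_left y z x)

theorem br_symm (x y : T) : c.br x y = c.br y x := Subtype.ext (c.comm_symm y x)

theorem q_mul (x y : T) : c.q (x * y) = c.q x * c.q y * c.br y x := Subtype.ext (c.sq_mul x y)

variable [Fintype T]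

/-- The signed count of the squares. -/
def cnt (ε : center T →* ℤ) : ℤ := ∑ x : T, ε (c.q x)

/-- Translating by a subgroup on which the sign of squares and commutators is trivial. -/
theorem cnt_mul_card (ε : center T →* ℤ) (H : Subgroup T) [Fintype H] (hq : ∀ u ∈ H, ε (c.q u) = 1) :
    (Nat.card H : ℤ) * c.cnt ε = ∑ s : T, ε (c.q s) * ∑ u : H, ((ε.comp (c.br s)).comp H.subtype) u := by
  have h1 : ∀ u : H, c.cnt ε = ∑ s : T, ε (c.q s) * ((ε.comp (c.br s)).comp H.subtype) u := fun u => by
    rw [cnt, ← Equiv.sum_comp (Equiv.mulRight (u : T))]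
    refine Finset.sum_congr rfl fun s _ => ?_
    rw [Equiv.coe_mulRight, c.q_mul, map_mul, map_mul, hq u u.2, mul_one, c.br_symm (u : T) s]
    rfl
  calc (Nat.card H : ℤ) * c.cnt ε = ∑ _u : H, c.cnt ε := by
        rw [Finset.sum_const, Finset.card_univ, ← Nat.card_eq_fintype_card, nsmul_eq_mul]
    _ = ∑ u : H, ∑ s : T, ε (c.q s) * ((ε.comp (c.br s)).comp H.subtype) u := Finset.sum_congr rfl fun u _ => h1 u
    _ = _ := by
        rw [Finset.sum_comm]
        exact Finset.sum_congr rfl fun s _ => (Finset.mul_sum _ _ _).symm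

/-- The square of the count. -/
theorem cnt_sq (ε : center T →* ℤ) (hε : ∀ v, ε v = 1 ∨ ε v = -1) :
    c.cnt ε * c.cnt ε = (Nat.card T : ℤ) *
      ∑ u ∈ Finset.univ.filter (fun u : T => ∀ s : T, ε (c.br u s) = 1), ε (c.q u) := by
  classical
  have hee : ∀ v, ε v * ε v = 1 := fun v => by rcases hε v with h | h <;> rw [h] <;> norm_num
  calc c.cnt ε * c.cnt ε = ∑ s : T, ∑ u : T, ε (c.q s) * ε (c.q (s * u)) := by
        rw [cnt, Finset.sum_mul]
        refine Finset.sum_congr rfl fun s _ => ?_
        rw [← Finset.mul_sum, ← Equiv.sum_comp (Equiv.mulLeft s) fun u => ε (c.q u)]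
        rfl
    _ = ∑ u : T, ε (c.q u) * ∑ s : T, (ε.comp (c.br u)) s := by
        rw [Finset.sum_comm]
        refine Finset.sum_congr rfl fun u _ => ?_
        rw [Finset.mul_sum]
        refine Finset.sum_congr rfl fun s _ => ?_
        rw [c.q_mul, map_mul, map_mul, ← mul_assoc, ← mul_assoc, hee, one_mul]
        rfl
    _ = ∑ u : T, if (∀ s : T, ε (c.br u s) = 1) then ε (c.q u) * (Nat.card T : ℤ) else 0 := by
        refine Finset.sum_congr rfl fun u _ => ?_
        by_cases h : ∀ s : T, ε (c.br u s) = 1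
        · rw [if_pos h, sum_hom_units, if_pos (MonoidHom.ext h), Nat.card_eq_fintype_card]
        · rw [if_neg h, sum_hom_units_eq_zero _ fun e => h fun s => DFunLike.congr_fun e s, mul_zero]
    _ = _ := by
        rw [← Finset.sum_filter, Finset.mul_sum]
        exact Finset.sum_congr rfl fun u _ => mul_comm _ _

/-- The radical is a union of cosets of the center. -/
theorem four_dvd (ε : center T →* ℤ) :
    (4 : ℤ) ∣ ∑ u ∈ Finset.univ.filter (fun u : T => ∀ s : T, ε (c.br u s) = 1), ε (c.q u) := by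
  classical
  haveI := Fintype.ofFinite (center T)
  haveI := Fintype.ofFinite (T ⧸ center T)
  let f : T → ℤ := fun u => if (∀ s : T, ε (c.br u s) = 1) then ε (c.q u) else 0
  have hf : ∀ (u : T) (v : center T), f (u * v) = f u := by
    intro u v
    have h1 : ∀ s, c.br (u * v) s = c.br u s := fun s => by
      rw [c.br_symm, c.br_symm u s, map_mul, show c.br s (v : T) = 1 from Subtype.ext
        (commutatorElement_eq_one_iff_commute.2 (c.zcomm v.2 s).symm), mul_one]
    have h2 : c.q (u * v) = c.q u := Subtype.ext (by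
      show u * v * (u * v) = u * u
      rw [mul_assoc, ← mul_assoc (v : T), ← c.zcomm v.2 u, mul_assoc u (v : T) v, (c.sq_one v).2 v.2, mul_one])
    simp only [f, h1, h2]
  have hsum : ∑ u : T, f u = ∑ p : (T ⧸ center T) × center T, f (Quotient.out p.1) := by
    rw [← Equiv.sum_comp (Subgroup.groupEquivQuotientProdSubgroup (s := center T)).symm]
    refine Finset.sum_congr rfl fun p _ => ?_
    obtain ⟨x, v⟩ := p
    obtain ⟨v', hv'⟩ : ∃ v' : center T, (Subgroup.groupEquivQuotientProdSubgroup (s := center T)).symm (x, v) =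
        Quotient.out x * v' := by
      set y := (Subgroup.groupEquivQuotientProdSubgroup (s := center T)).symm (x, v) with hy
      have hyx : (QuotientGroup.mk y : T ⧸ center T) = x := by
        have h := congrArg Prod.fst
          ((Subgroup.groupEquivQuotientProdSubgroup (s := center T)).apply_symm_apply (x, v))
        exact h
      refine ⟨⟨(Quotient.out x)⁻¹ * y, QuotientGroup.eq.1 ?_⟩, by rw [mul_inv_cancel_left]⟩
      rw [QuotientGroup.out_eq', hyx]
    rw [hv', hf]
  rw [Finset.sum_filter, hsum, Fintype.sum_prod_type]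
  refine Finset.dvd_sum fun x _ => ?_
  show (4 : ℤ) ∣ ∑ _v : center T, f (Quotient.out x)
  rw [Finset.sum_const, Finset.card_univ, ← Nat.card_eq_fintype_card, c.four, nsmul_eq_mul]
  exact dvd_mul_right _ _

omit [Fintype T] in
theorem exists_invol_pair {w : T} (hw : w ∈ center T) (hw1 : w ≠ 1) :
    ∃ v : T, v ∈ center T ∧ v ≠ 1 ∧ v ≠ w := by
  classical
  haveI := Fintype.ofFinite (center T)
  by_contra h
  push Not at h
  have h1 : (Finset.univ : Finset (center T)) ⊆ {(1 : center T), ⟨w, hw⟩} := fun v _ => by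
    by_cases e : (v : T) = 1
    · simp [show v = 1 from Subtype.ext e]
    · simp [show v = ⟨w, hw⟩ from Subtype.ext (h v v.2 e)]
  have h2 := (Finset.card_le_card h1).trans Finset.card_le_two
  rw [Finset.card_univ, ← Nat.card_eq_fintype_card, c.four] at h2
  omega

omit [Fintype T] in
/-- The number of roots is the same for all three. -/
theorem roots_eq {v w : T} (hv : v ∈ center T) (hv1 : v ≠ 1) (hw : w ∈ center T) (hw1 : w ≠ 1) :
    Nat.card {x : T // x * x = v} = Nat.card {x : T // x * x = w} := by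
  obtain ⟨α, hα⟩ := c.trans v w hv hv1 hw hw1
  refine Nat.card_congr (α.toEquiv.subtypeEquiv fun x => ?_)
  show x * x = v ↔ α x * α x = w
  rw [← map_mul, ← hα, α.injective.eq_iff]

/-- The count. -/
theorem cnt_eq {w : T} (hw : w ∈ center T) (hw1 : w ≠ 1) (ε : center T →* ℤ)
    (hε : ∀ v : center T, (ε v = 1 ∨ ε v = -1) ∧ (ε v = 1 ↔ (v : T) = 1 ∨ (v : T) = w)) :
    ∃ r : ℕ, (Nat.card T = 4 + 3 * r) ∧ c.cnt ε = 4 - (r : ℤ) ∧
      ∀ v, v ∈ center T → v ≠ 1 → Nat.card {x : T // x * x = v} = r := by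
  classical
  haveI := Fintype.ofFinite (center T)
  refine ⟨Nat.card {x : T // x * x = w}, ?_⟩
  set r := Nat.card {x : T // x * x = w} with hr
  have hfib : ∀ v : center T, Nat.card {x : T // c.q x = v} = if v = 1 then 4 else r := by
    intro v
    rw [Nat.card_congr (Equiv.subtypeEquivRight fun x => (Subtype.ext_iff : c.q x = v ↔ x * x = (v : T)))]
    by_cases h : v = 1
    · rw [if_pos h, h, ← c.four]
      exact Nat.card_congr (Equiv.subtypeEquivRight fun x => by rw [OneMemClass.coe_one]; exact c.sq_one x)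
    · rw [if_neg h, hr]; exact c.roots_eq v.2 (fun e => h (Subtype.ext e)) hw hw1
  have hval : ∀ g : center T → ℤ, ∑ x : T, g (c.q x) = ∑ v : center T, g v * (if v = 1 then 4 else (r : ℤ)) := by
    intro g
    rw [← Finset.sum_fiberwise_of_maps_to (s := Finset.univ) (t := Finset.univ) (g := c.q) fun x _ => Finset.mem_univ _]
    refine Finset.sum_congr rfl fun v _ => ?_
    rw [Finset.sum_congr rfl fun x hx => show g (c.q x) = g v by rw [(Finset.mem_filter.1 hx).2], Finset.sum_const,
      ← Fintype.card_subtype, ← Nat.card_eq_fintype_card, hfib v, nsmul_eq_mul, mul_comm]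
    congr 1
    split <;> simp
  have hsplit : ∀ g : center T → ℤ, ∑ v : center T, g v * (if v = 1 then 4 else (r : ℤ)) =
      g 1 * (4 - r) + (∑ v : center T, g v) * r := by
    intro g
    rw [Finset.sum_mul, ← sub_eq_iff_eq_add, ← Finset.sum_sub_distrib,
      Finset.sum_eq_single 1 (fun v _ hv => by rw [if_neg hv]; ring) (fun h => absurd (Finset.mem_univ _) h),
      if_pos rfl]
    ring
  refine ⟨?_, ?_, fun v hv hv1 => c.roots_eq hv hv1 hw hw1⟩
  · have h := hval fun _ => 1
    rw [hsplit] at h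
    simp only [Finset.sum_const, Finset.card_univ, ← Nat.card_eq_fintype_card, c.four, nsmul_eq_mul] at h
    omega
  · rw [cnt, hval, hsplit, sum_hom_units_eq_zero ε ?_, map_one]
    · ring
    · intro e
      obtain ⟨v, hv, hv1, hvw⟩ := c.exists_invol_pair hw hw1
      rcases (hε ⟨v, hv⟩).2.1 (DFunLike.congr_fun e _) with h | h
      exacts [hv1 h, hvw h]

/-- Sixty-four elements. -/
theorem card_T : Nat.card T = 64 := by
  classical
  haveI : Fact (Nat.Prime 2) := ⟨Nat.prime_two⟩
  obtain ⟨⟨w, hw⟩, hw1⟩ : ∃ w : center T, w ≠ 1 := by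
    by_contra h
    push Not at h
    have : Subsingleton (center T) := ⟨fun a b => (h a).trans (h b).symm⟩
    exact absurd (c.four.symm.trans (Nat.card_of_subsingleton (1 : center T))) (by norm_num)
  have hw1' : w ≠ 1 := fun e => hw1 (Subtype.ext e)
  obtain ⟨ε, hε⟩ := c.exists_sign hw hw1'
  obtain ⟨r, hn, hG, -⟩ := c.cnt_eq hw hw1' ε hε
  have hsq := c.cnt_sq ε fun v => (hε v).1
  obtain ⟨R, hR⟩ := c.four_dvd ε
  rw [hR] at hsq
  obtain ⟨m, hm⟩ := IsPGroup.iff_card.1 c.two
  have hdvd : 4 * (2 : ℤ) ^ m ∣ (4 - (r : ℤ)) * (4 - r) :=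
    ⟨R, by rw [← hG, hsq, hm]; push_cast; ring⟩
  have hm4 : 4 ∣ 2 ^ m := by rw [← hm, ← c.four]; exact Subgroup.card_subgroup_dvd_card _
  -- no group of order four or sixteen
  have hne4 : 2 ^ m ≠ 4 := fun h4 => by
    have htop : center T = ⊤ := eq_top_of_le_card _ (by rw [c.four, hm, h4])
    have hcb : commutator T = ⊥ := by
      rw [_root_.commutator_def, commutator_eq_bot_iff_le_centralizer]
      exact fun x _ => mem_centralizer_iff.2 fun y _ => (mem_center_iff.1 (htop ▸ mem_top x) y)
    rw [c.derived] at hcb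
    exact absurd (c.four.symm.trans (by rw [hcb, Subgroup.card_bot])) (by norm_num)
  have hne16 : 2 ^ m ≠ 16 := fun h16 => by
    have hq4 : Nat.card (T ⧸ center T) = 4 := by
      have h := Subgroup.card_eq_card_quotient_mul_card_subgroup (center T)
      rw [c.four, hm, h16] at h
      omega
    obtain ⟨x, hx⟩ : ∃ x, x ∉ center T := by
      by_contra h
      push Not at h
      have : center T = ⊤ := (Subgroup.eq_top_iff' _).2 h
      rw [← c.four, this, Subgroup.card_top, hm] at hne4
      exact hne4 rfl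
    let K : Subgroup T := center T ⊔ zpowers x
    have hKn : K ≠ ⊤ ∨ ∀ s t : T, Commute s t := by
      by_cases h : K = ⊤
      · refine Or.inr fun s t => ?_
        have key : K ≤ centralizer ({x} : Set T) := sup_le (fun v hv => mem_centralizer_singleton_iff.2
          (c.zcomm hv x).symm) (zpowers_le.2 (mem_centralizer_singleton_iff.2 rfl))
        have hxc : x ∈ center T := mem_center_iff.2 fun g =>
          mem_centralizer_singleton_iff.1 (key (h ▸ mem_top g))
        exact absurd hxc hx
      · exact Or.inl h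
    rcases hKn with hK | hK
    · obtain ⟨y, hy⟩ : ∃ y, y ∉ K := by
        by_contra h
        push Not at h
        exact hK ((Subgroup.eq_top_iff' _).2 h)
      let H : Subgroup T := K ⊔ zpowers y
      have hH : H = ⊤ := by
        refine eq_top_of_le_card _ ?_
        have h1 : 2 * Nat.card (center T) ≤ Nat.card K := by
          obtain ⟨d, hd⟩ := card_dvd_of_le (le_sup_left : center T ≤ K)
          rcases d with _ | _ | d
          · exact absurd hd (by rw [mul_zero]; exact Nat.card_pos.ne')
          · exact absurd ((eq_of_le_of_card_ge (le_sup_left : center T ≤ K) (by rw [hd]; simp)).ge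
              (mem_sup_right (mem_zpowers x))) hx
          · rw [hd]; nlinarith
        have h2 : 2 * Nat.card K ≤ Nat.card H := by
          obtain ⟨d, hd⟩ := card_dvd_of_le (le_sup_left : K ≤ H)
          rcases d with _ | _ | d
          · exact absurd hd (by rw [mul_zero]; exact Nat.card_pos.ne')
          · exact absurd ((eq_of_le_of_card_ge (le_sup_left : K ≤ H) (by rw [hd]; simp)).ge
              (mem_sup_right (mem_zpowers y))) hy
          · rw [hd]; nlinarith
        rw [c.four] at h1
        rw [hm, h16]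
        omega
      -- all commutators lie in one cyclic group
      have hcyc : ∀ s : T, c.br x s ∈ zpowers (c.br x y) ∧ c.br y s ∈ zpowers (c.br x y) := by
        intro s
        have hle : H ≤ (zpowers (c.br x y)).comap (c.br x) ⊓ (zpowers (c.br x y)).comap (c.br y) := by
          refine sup_le (sup_le (fun v hv => ?_) (zpowers_le.2 ?_)) (zpowers_le.2 ?_)
          · refine ⟨?_, ?_⟩ <;>
            · show c.br _ v ∈ zpowers (c.br x y)
              rw [show c.br _ v = 1 from Subtype.ext (commutatorElement_eq_one_iff_commute.2 (c.zcomm hv _).symm)]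
              exact one_mem _
          · refine ⟨?_, ?_⟩
            · show c.br x x ∈ zpowers (c.br x y)
              rw [show c.br x x = 1 from Subtype.ext (commutatorElement_self x)]; exact one_mem _
            · show c.br y x ∈ zpowers (c.br x y)
              rw [c.br_symm]; exact mem_zpowers _
          · refine ⟨mem_zpowers (c.br x y), ?_⟩
            show c.br y y ∈ zpowers (c.br x y)
            rw [show c.br y y = 1 from Subtype.ext (commutatorElement_self y)]; exact one_mem _
        exact hle (hH ▸ mem_top s)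
      have hall : ∀ t s : T, c.br t s ∈ zpowers (c.br x y) := by
        intro t s
        have hle : H ≤ (zpowers (c.br x y)).comap (c.br s) := by
          refine sup_le (sup_le (fun v hv => ?_) (zpowers_le.2 ?_)) (zpowers_le.2 ?_)
          · show c.br s v ∈ zpowers (c.br x y)
            rw [show c.br s v = 1 from Subtype.ext (commutatorElement_eq_one_iff_commute.2 (c.zcomm hv _).symm)]
            exact one_mem _
          · show c.br s x ∈ zpowers (c.br x y)
            rw [c.br_symm s x]; exact (hcyc s).1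
          · show c.br s y ∈ zpowers (c.br x y)
            rw [c.br_symm s y]; exact (hcyc s).2
        rw [c.br_symm t s]; exact hle (hH ▸ mem_top t)
      have hle : center T ≤ (zpowers (c.br x y)).map (center T).subtype := by
        conv_lhs => rw [← c.derived]
        exact commutator_le.2 fun p _ q _ => ⟨c.br q p, hall q p, rfl⟩
      have h3 := card_dvd_of_le hle
      rw [c.four, Subgroup.card_map_of_injective (center T).subtype_injective, Nat.card_zpowers] at h3
      have h4 : orderOf (c.br x y) ∣ 2 := orderOf_dvd_of_pow_eq_one (Subtype.ext (by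
        rw [SubgroupClass.coe_pow, pow_two]; exact (c.sq_one _).2 (c.br x y).2))
      exact absurd (h3.trans h4) (by decide)
    · exact hx (mem_center_iff.2 fun g => (hK g x).eq)
  -- the remaining exponents
  have hn' : (2 : ℕ) ^ m = 4 + 3 * r := hm ▸ hn
  rcases m with _ | _ | _ | _ | _ | _ | _ | k
  · norm_num at hm4
  · norm_num at hm4
  · exact absurd rfl hne4
  · norm_num at hn'; omega
  · exact absurd rfl hne16
  · norm_num at hn'; omega
  · rw [hm]; norm_num
  · exfalso
    -- `4 - r` is a multiple of four prime to eight times more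
    have h1 : (3 : ℤ) * (4 - r) = 16 * (1 - 8 * 2 ^ k) := by
      have h : (2 : ℤ) ^ (k + 7) = 4 + 3 * r := by exact_mod_cast hn'
      rw [pow_add] at h
      linarith
    have h2 : 4 * (2 : ℤ) ^ (k + 7) ∣ 256 * (1 - 8 * 2 ^ k) * (1 - 8 * 2 ^ k) := by
      rw [show 256 * (1 - 8 * (2 : ℤ) ^ k) * (1 - 8 * 2 ^ k) = (3 * (4 - (r : ℤ))) * (3 * (4 - r)) by rw [h1]; ring,
        show (3 * (4 - (r : ℤ))) * (3 * (4 - r)) = 9 * ((4 - r) * (4 - r)) by ring]
      exact hdvd.mul_left 9
    rw [show 4 * (2 : ℤ) ^ (k + 7) = 256 * (2 * 2 ^ k) by rw [pow_add]; ring, mul_assoc (256 : ℤ) (1 - _)] at h2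
    have h3 : (2 : ℤ) ∣ (1 - 8 * 2 ^ k) * (1 - 8 * 2 ^ k) :=
      dvd_trans (dvd_mul_right 2 _) ((mul_dvd_mul_iff_left (by norm_num : (256 : ℤ) ≠ 0)).1 h2)
    have h4 : (1 - 8 * (2 : ℤ) ^ k) * (1 - 8 * 2 ^ k) = 1 + 2 * (8 * 2 ^ k * (4 * 2 ^ k - 1)) := by ring
    rw [h4] at h3
    omega

theorem cnt_value {w : T} (hw : w ∈ center T) (hw1 : w ≠ 1) (ε : center T →* ℤ)
    (hε : ∀ v : center T, (ε v = 1 ∨ ε v = -1) ∧ (ε v = 1 ↔ (v : T) = 1 ∨ (v : T) = w)) : c.cnt ε = -16 := by
  obtain ⟨r, hn, hG, -⟩ := c.cnt_eq hw hw1 ε hε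
  rw [c.card_T] at hn
  rw [hG]
  omega

/-- The radical of a sign is the center. -/
theorem rad_center {w : T} (hw : w ∈ center T) (hw1 : w ≠ 1) (ε : center T →* ℤ)
    (hε : ∀ v : center T, (ε v = 1 ∨ ε v = -1) ∧ (ε v = 1 ↔ (v : T) = 1 ∨ (v : T) = w)) {x : T}
    (hx : ∀ s, ε (c.br x s) = 1) : x ∈ center T := by
  classical
  let R : Subgroup T :=
    { carrier := {u | ∀ s, ε (c.br u s) = 1}
      one_mem' := fun s => by rw [c.br_symm, map_one, map_one]
      mul_mem' := fun {u v} hu hv s => by
        rw [c.br_symm, map_mul, map_mul, c.br_symm s u, c.br_symm s v, hu, hv, one_mul]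
      inv_mem' := fun {u} hu s => by
        have h : c.br s u⁻¹ = c.br s u := by
          rw [map_inv]; exact Subtype.ext (c.inv_z (c.br s u).2)
        rw [c.br_symm, h, c.br_symm]; exact hu s }
  haveI := Fintype.ofFinite R
  let ψ : R →* ℤ :=
    { toFun := fun u => ε (c.q (u : T))
      map_one' := by
        rw [show c.q ((1 : R) : T) = 1 from Subtype.ext (by show (1 : T) * 1 = 1; rw [one_mul]), map_one]
      map_mul' := fun u v => by
        rw [Subgroup.coe_mul, c.q_mul, map_mul, map_mul, v.2, mul_one] }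
  have h1 := c.cnt_sq ε fun v => (hε v).1
  rw [c.cnt_value hw hw1 ε hε, c.card_T] at h1
  have h2 : ∑ u ∈ Finset.univ.filter (fun u : T => ∀ s : T, ε (c.br u s) = 1), ε (c.q u) = ∑ u : R, ψ u :=
    Finset.sum_subtype _ (fun u => by simp only [Finset.mem_filter, Finset.mem_univ, true_and]; exact Iff.rfl) _
  rw [h2, sum_hom_units] at h1
  have hZR : center T ≤ R := fun v hv s => by
    rw [show c.br v s = 1 from Subtype.ext (commutatorElement_eq_one_iff_commute.2 (c.zcomm hv s)), map_one]
  by_cases hψ : ψ = 1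
  · rw [if_pos hψ] at h1
    have h3 : Nat.card R = 4 := by rw [Nat.card_eq_fintype_card]; push_cast at h1; omega
    exact (eq_of_le_of_card_ge hZR (by rw [h3, c.four])).ge (show x ∈ R from hx)
  · rw [if_neg hψ] at h1
    norm_num at h1

theorem comm_surj (x : T) (hx : x ∉ center T) (v : T) (hv : v ∈ center T) : ∃ y, ⁅x, y⁆ = v := by
  suffices h : (c.br x).range = ⊤ by
    obtain ⟨y, hy⟩ : (⟨v, hv⟩ : center T) ∈ (c.br x).range := h ▸ mem_top _
    exact ⟨y, by rw [c.comm_symm]; exact congrArg Subtype.val hy⟩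
  by_contra hne
  -- the range lies in the kernel of a sign
  have h2 : Nat.card (c.br x).range ≤ 2 := by
    have hd := Subgroup.card_subgroup_dvd_card (c.br x).range
    rw [c.four] at hd
    have hlt : Nat.card (c.br x).range ≠ 4 := fun h => hne (eq_top_of_le_card _ (by rw [h, c.four]))
    have hle := Nat.le_of_dvd (by norm_num) hd
    rcases (show Nat.card (c.br x).range ≤ 2 ∨ Nat.card (c.br x).range = 3 by omega) with h | h
    · exact h
    · rw [h] at hd; norm_num at hd
  obtain ⟨w, hw, hw1, hall⟩ : ∃ w : T, ∃ _ : w ∈ center T, w ≠ 1 ∧ ∀ s, ((c.br x s : center T) : T) = 1 ∨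
      ((c.br x s : center T) : T) = w := by
    classical
    by_cases h1 : ∃ s, c.br x s ≠ 1
    · obtain ⟨s₀, hs₀⟩ := h1
      refine ⟨c.br x s₀, (c.br x s₀).2, fun e => hs₀ (Subtype.ext e), fun s => ?_⟩
      by_contra hcon
      push Not at hcon
      haveI := Fintype.ofFinite (c.br x).range
      have h3 := (Finset.card_eq_three.2 ⟨(1 : (c.br x).range), ⟨c.br x s₀, s₀, rfl⟩, ⟨c.br x s, s, rfl⟩,
        fun e => hs₀ (congrArg Subtype.val e).symm, fun e => hcon.1 (congrArg (fun z : (c.br x).range => ((z : center T) : T)) e).symm,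
        fun e => hcon.2 (congrArg (fun z : (c.br x).range => ((z : center T) : T)) e).symm, rfl⟩).ge.trans
        (Finset.card_le_univ _)
      rw [← Nat.card_eq_fintype_card] at h3
      omega
    · push Not at h1
      obtain ⟨⟨w, hw⟩, hw1⟩ : ∃ w : center T, w ≠ 1 := by
        by_contra h
        push Not at h
        have : Subsingleton (center T) := ⟨fun a b => (h a).trans (h b).symm⟩
        exact absurd (c.four.symm.trans (Nat.card_of_subsingleton (1 : center T))) (by norm_num)
      exact ⟨w, hw, fun e => hw1 (Subtype.ext e), fun s => Or.inl (by rw [h1 s]; rfl)⟩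
  obtain ⟨ε, hε⟩ := c.exists_sign hw hw1
  exact hx (c.rad_center hw hw1 ε hε fun s => (hε _).2.2 (hall s))

theorem no_q8 (a b : T) (ha : a * a ≠ 1) (hab : a * a = b * b) : ⁅a, b⁆ ≠ a * a := by
  classical
  intro hcm
  have hanc : a ∉ center T := fun h => ha ((c.sq_one a).2 h)
  have hbnc : b ∉ center T := fun h => ha (hab.trans ((c.sq_one b).2 h))
  have hnc : ⁅a, b⁆ ≠ 1 := fun e => ha (hcm.symm.trans e)
  obtain ⟨ε, hε⟩ := c.exists_sign (c.sq_mem a) ha
  have hεz : ∀ v : center T, (v : T) = 1 ∨ (v : T) = a * a → ε v = 1 := fun v h => (hε v).2.2 h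
  have hcentre : ∀ x : T, ∀ v ∈ center T, ε (c.br x v) = 1 := fun x v hv =>
    hεz _ (Or.inl (commutatorElement_eq_one_iff_commute.2 (c.zcomm hv x).symm))
  let H : Subgroup T :=
    { carrier := {s | ε (c.br a s) = 1 ∧ ε (c.br b s) = 1}
      one_mem' := ⟨by rw [map_one, map_one], by rw [map_one, map_one]⟩
      mul_mem' := fun {s t} hs ht => ⟨by rw [map_mul, map_mul, hs.1, ht.1, one_mul],
        by rw [map_mul, map_mul, hs.2, ht.2, one_mul]⟩
      inv_mem' := fun {s} hs => by
        have h : ∀ x, c.br x s⁻¹ = c.br x s := fun x => by rw [map_inv]; exact Subtype.ext (c.inv_z (c.br x s).2)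
        exact ⟨by rw [h]; exact hs.1, by rw [h]; exact hs.2⟩ }
  haveI := Fintype.ofFinite H
  -- `H` is generated by the center, `a` and `b`
  let K : Subgroup T := center T ⊔ zpowers a ⊔ zpowers b
  have hKH : K ≤ H :=
    sup_le (sup_le (fun v hv => ⟨hcentre a v hv, hcentre b v hv⟩)
      (zpowers_le.2 ⟨hεz _ (Or.inl (commutatorElement_self a)), hεz _ (Or.inr hcm)⟩))
      (zpowers_le.2 ⟨hεz _ (Or.inr ((c.comm_symm b a).trans hcm)), hεz _ (Or.inl (commutatorElement_self b))⟩)
  have hKK : ∀ s ∈ K, ∀ t ∈ K, ε (c.br s t) = 1 := fun s hs => by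
    let L : Subgroup T := (ε.toHomUnits.comp (c.br s)).ker
    have hL : ∀ t, t ∈ L ↔ ε (c.br s t) = 1 := fun t => by
      rw [MonoidHom.mem_ker, MonoidHom.comp_apply, Units.ext_iff, MonoidHom.coe_toHomUnits, Units.val_one]
    have hle : K ≤ L :=
      sup_le (sup_le (fun v hv => (hL v).2 (hcentre s v hv))
        (zpowers_le.2 ((hL a).2 (by rw [c.br_symm]; exact (hKH hs).1))))
        (zpowers_le.2 ((hL b).2 (by rw [c.br_symm]; exact (hKH hs).2)))
    exact fun t ht => (hL t).1 (hle ht)
  let Q : Subgroup T :=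
    { carrier := {s | s ∈ K ∧ ε (c.q s) = 1}
      one_mem' := ⟨one_mem _, hεz _ (Or.inl (one_mul (1 : T)))⟩
      mul_mem' := fun {s t} hs ht => ⟨mul_mem hs.1 ht.1, by
        rw [c.q_mul, map_mul, map_mul, hs.2, ht.2, hKK t ht.1 s hs.1, mul_one, one_mul]⟩
      inv_mem' := fun {s} hs => ⟨inv_mem hs.1, by
        rw [show c.q s⁻¹ = c.q s from Subtype.ext (by
          show s⁻¹ * s⁻¹ = s * s
          rw [← mul_inv_rev, c.inv_z (c.sq_mem s)])]
        exact hs.2⟩ }
  have hKQ : K ≤ Q :=
    sup_le (sup_le (fun v hv => ⟨mem_sup_left (mem_sup_left hv), hεz _ (Or.inl ((c.sq_one v).2 hv))⟩)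
      (zpowers_le.2 ⟨mem_sup_left (mem_sup_right (mem_zpowers a)), hεz _ (Or.inr rfl)⟩))
      (zpowers_le.2 ⟨mem_sup_right (mem_zpowers b), hεz _ (Or.inr hab.symm)⟩)
  -- sixteen elements
  have hdouble : ∀ (A B : Subgroup T) (x : T), x ∈ B → x ∉ A → A ≤ B → 2 * Nat.card A ≤ Nat.card B := by
    intro A B x hxB hxA hAB
    obtain ⟨d, hd⟩ := card_dvd_of_le hAB
    rcases d with _ | _ | d
    · exact absurd hd (by rw [mul_zero]; exact Nat.card_pos.ne')
    · exact absurd ((eq_of_le_of_card_ge hAB (by rw [hd]; simp)).ge hxB) hxA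
    · rw [hd]; nlinarith
  have hK16 : 16 ≤ Nat.card K := by
    have h1 := hdouble _ (center T ⊔ zpowers a) a (mem_sup_right (mem_zpowers a)) hanc le_sup_left
    have h2 := hdouble (center T ⊔ zpowers a) K b (mem_sup_right (mem_zpowers b)) (fun hb => hnc (by
      have hle : center T ⊔ zpowers a ≤ centralizer ({a} : Set T) := sup_le
        (fun v hv => mem_centralizer_singleton_iff.2 (c.zcomm hv a).symm)
        (zpowers_le.2 (mem_centralizer_singleton_iff.2 rfl))
      exact commutatorElement_eq_one_iff_commute.2 (mem_centralizer_singleton_iff.1 (hle hb)).symm)) le_sup_left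
    rw [c.four] at h1
    omega
  have habnc : a * b ∉ center T := fun h => hnc
    (commutatorElement_eq_one_iff_commute.2 (mul_left_cancel ((c.zcomm h a).trans (mul_assoc a b a))))
  have hnt : ∀ x, x ∉ center T → ε.comp (c.br x) ≠ 1 := fun x hx e =>
    hx (c.rad_center (c.sq_mem a) ha ε hε fun s => DFunLike.congr_fun e s)
  have hH16 : Nat.card H = 16 := by
    have hval : ∀ s : T, (1 + (ε.comp (c.br a)) s + (ε.comp (c.br b)) s + (ε.comp (c.br (a * b))) s : ℤ) =
        if s ∈ H then 4 else 0 := fun s => by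
      have hab' : (ε.comp (c.br (a * b))) s = ε (c.br a s) * ε (c.br b s) := by
        rw [MonoidHom.comp_apply, c.br_symm, map_mul, map_mul, c.br_symm s a, c.br_symm s b]
      rw [hab', MonoidHom.comp_apply, MonoidHom.comp_apply]
      rcases (hε (c.br a s)).1 with h1 | h1 <;> rcases (hε (c.br b s)).1 with h2 | h2 <;> rw [h1, h2] <;>
        first
          | rw [if_pos (show s ∈ H from ⟨h1, h2⟩)]; norm_num
          | rw [if_neg (fun h : s ∈ H => by have := h.1; have := h.2; omega)]; norm_num
    have h := Finset.sum_congr (s₁ := (Finset.univ : Finset T)) rfl fun s _ => hval s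
    rw [Finset.sum_add_distrib, Finset.sum_add_distrib, Finset.sum_add_distrib,
      sum_hom_units_eq_zero _ (hnt a hanc), sum_hom_units_eq_zero _ (hnt b hbnc),
      sum_hom_units_eq_zero _ (hnt _ habnc), ← Finset.sum_filter, Finset.sum_const, Finset.sum_const,
      Finset.card_univ, ← Fintype.card_subtype, ← Nat.card_eq_fintype_card, c.card_T, nsmul_eq_mul,
      nsmul_eq_mul] at h
    rw [Nat.card_eq_fintype_card]
    simp at h
    omega
  have hKeq : K = H := eq_of_le_of_card_ge hKH (by rw [hH16]; exact hK16)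
  have hqH : ∀ u ∈ H, ε (c.q u) = 1 := fun u hu => (hKQ (hKeq.ge hu)).2
  have h1 := c.cnt_mul_card ε H hqH
  have h2 : ∀ s : T, ε (c.q s) * ∑ u : H, ((ε.comp (c.br s)).comp H.subtype) u = if s ∈ H then 16 else 0 := by
    intro s
    by_cases hs : s ∈ H
    · rw [if_pos hs, hqH s hs, one_mul, sum_hom_units,
        if_pos (show (ε.comp (c.br s)).comp H.subtype = 1 from MonoidHom.ext fun u => hKK s (hKeq.ge hs) u
        (hKeq.ge u.2)), ← Nat.card_eq_fintype_card, hH16]
      norm_num
    · rw [if_neg hs, sum_hom_units_eq_zero _ ?_, mul_zero]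
      intro e
      refine hs ⟨?_, ?_⟩
      · rw [c.br_symm]; exact DFunLike.congr_fun e ⟨a, hKH (mem_sup_left (mem_sup_right (mem_zpowers a)))⟩
      · rw [c.br_symm]; exact DFunLike.congr_fun e ⟨b, hKH (mem_sup_right (mem_zpowers b))⟩
  rw [Finset.sum_congr rfl fun s _ => h2 s, ← Finset.sum_filter, Finset.sum_const, ← Fintype.card_subtype,
    ← Nat.card_eq_fintype_card, hH16, c.cnt_value (c.sq_mem a) ha ε hε] at h1
  norm_num at h1

/-- The properties. -/
theorem u4 : UFour.U4 T where
  card := c.card_T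
  card_center := c.four
  sq_one := c.sq_one
  sq_mem := c.sq_mem
  comm_mem := c.comm_mem
  comm_surj x hx v hv := c.comm_surj x hx v hv
  fibre v hv hv1 := by
    obtain ⟨ε, hε⟩ := c.exists_sign hv hv1
    obtain ⟨r, hn, -, hr⟩ := c.cnt_eq hv hv1 ε hε
    rw [c.card_T] at hn
    rw [hr v hv hv1]
    omega
  no_q8 := c.no_q8

end Spec

end Cfsg.Agent.RankOneCI
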