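import Cfsg.Agent.Lib.RankOneCI.Bad
import Cfsg.Agent.Lib.CI.Component

/-!
# The centraliser of a bad involution modulo its odd core: the component

If the Sylow 2-subgroup is not normal there is exactly one component, and it contains one of `x`, `x a` for every
involution `x ≠ a` of `S`.
-/

set_option autoImplicit false
set_option linter.style.haveILetI false
set_option linter.unusedSectionVars false
set_option linter.dupNamespace false

namespace Cfsg.Agent.RankOneCI

open Subgroup Cfsg.Agent Cfsg.Agent.CI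
open scoped commutatorElement Pointwise

universe u

variable {X : Type u} [Group X] [Finite X]

/-- What is used of the centraliser of `a` modulo its odd core. -/
structure Loc (S : Sylow 2 X) (a : X) : Prop where
  core : Cfsg.oddCore X = ⊥
  mem : a ∈ (S : Subgroup X)
  invol : orderOf a = 2
  central : a ∈ Subgroup.center X
  cen : ∀ x ∈ (S : Subgroup X), orderOf x = 2 → Cen S x
  uniq : ∀ x ∈ (S : Subgroup X), orderOf x = 2 → x ≠ a → ∀ T : Sylow 2 X, x ∈ (T : Subgroup X) → T = S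
  other : ∃ b ∈ (S : Subgroup X), orderOf b = 2 ∧ b ≠ a
  orbit : ∀ x ∈ (S : Subgroup X), orderOf x = 2 → x ≠ a → ∀ y ∈ (S : Subgroup X), orderOf y = 2 → y ≠ a →
    ∃ g : X, y = g * x * g⁻¹ ∨ y = g * x * g⁻¹ * a
  notNormal : ¬ (S : Subgroup X).Normal
  sq : ∀ x ∈ (S : Subgroup X), (x * x) * (x * x) = 1
  derived : ∀ x ∈ (S : Subgroup X), orderOf x = 2 → x ∈ ⁅(S : Subgroup X), (S : Subgroup X)⁆
  roots : ∀ x ∈ (S : Subgroup X), orderOf x = 2 → ∀ y ∈ (S : Subgroup X), orderOf y = 2 →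
    Nat.card {s : (S : Subgroup X) // (s : X) * s = x} = Nat.card {s : (S : Subgroup X) // (s : X) * s = y}

namespace Loc

variable {S : Sylow 2 X} {a : X} (c : Loc S a)
include c

theorem comm_a (g : X) : a * g = g * a := (Subgroup.mem_center_iff.1 c.central g).symm

theorem exists_ne_sylow : ∃ T : Sylow 2 X, T ≠ S := by
  by_contra hall
  push Not at hall
  exact c.notNormal (normalizer_eq_top_iff.1
    (eq_top_iff.2 fun g _ => Sylow.smul_eq_iff_mem_normalizer.1 (hall (g • S))))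

/-- An element moving an involution other than `a` into `S` normalises `S`. -/
theorem norm_of {x g : X} (hx : x ∈ (S : Subgroup X)) (hx2 : orderOf x = 2) (hne : x ≠ a)
    (hg : g * x * g⁻¹ ∈ (S : Subgroup X)) : g ∈ normalizer ((S : Subgroup X) : Set X) := by
  refine Sylow.smul_eq_iff_mem_normalizer.1 (c.uniq _ hg (by rw [orderOf_conj', hx2]) (fun e => hne ?_) _
    (sylow_mem_smul.2 (by rw [show g⁻¹ * (g * x * g⁻¹) * g = x by group]; exact hx)))
  calc x = g⁻¹ * (g * x * g⁻¹) * g := by group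
    _ = g⁻¹ * a * g := by rw [e]
    _ = a := by rw [mul_assoc, c.comm_a g, inv_mul_cancel_left]

theorem cent_le {x : X} (hx : x ∈ (S : Subgroup X)) (hx2 : orderOf x = 2) (hne : x ≠ a) :
    centralizer ({x} : Set X) ≤ normalizer ((S : Subgroup X) : Set X) := fun g hg =>
  c.norm_of hx hx2 hne (by rw [mem_centralizer_singleton_iff.1 hg, mul_inv_cancel_right]; exact hx)

theorem exists_comp : ∃ J : Subgroup X, Cfsg.IsComponent J := by
  by_contra hc
  push Not at hc
  obtain ⟨b, hb, hb2, hba⟩ := c.other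
  obtain ⟨T, hT⟩ := c.exists_ne_sylow
  have hbF : b ∈ Cfsg.fittingSubgroup X := GW.centralizer_gfit_le_fit (mem_centralizer_iff.2 fun x hx => by
    have hle : Cfsg.generalizedFittingSubgroup X ≤ Cfsg.fittingSubgroup X :=
      sup_le (sSup_le fun K hK => (hc K hK).elim) le_rfl
    exact (c.cen b hb hb2 x (fitting_le_sylow c.core S (hle hx))).eq)
  exact hT (c.uniq b hb hb2 hba T (fitting_le_sylow c.core T hbF))

variable {J : Subgroup X} (hJ : Cfsg.IsComponent J)
include hJ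

/-- A component contains an involution of `S` other than `a`. -/
theorem exists_in_comp : ∃ x ∈ (S : Subgroup X) ⊓ J, orderOf x = 2 ∧ x ≠ a := by
  by_contra hcon
  push Not at hcon
  obtain ⟨b, hb, hb2, hba⟩ := c.other
  have hbb := mul_self_of_order hb2
  have haa := mul_self_of_order c.invol
  -- `b` normalises `J`
  have hbJ : b ∈ normalizer (J : Set X) := by
    by_contra hn
    have hne : Fusion.cj J b ≠ J := fun e => hn (Fusion.mem_normalizer_iff_cj.2 e)
    have hcomm := Subgroup.commutator_eq_bot_iff_le_centralizer.1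
      (Solv.components_commute (Solv.component_conj hJ b) hJ hne)
    refine comp_not_norm hJ S fun j hj => mem_normalizer_fintype fun y hy => ?_
    have hy' : y ∈ Fusion.cj J b := Fusion.mem_cj.2 (by
      rw [show b⁻¹ * y * b = y by rw [mul_assoc, (c.cen b hb hb2 y hy.1).eq, inv_mul_cancel_left]]
      exact hy.2)
    rwa [show j * y * j⁻¹ = y from mul_inv_eq_iff_eq_mul.2 (mem_centralizer_iff.1 (hcomm hy') j hj)]
  haveI hA : (zpowers a).Normal := ⟨fun n hn g => by
    obtain ⟨i, rfl⟩ := mem_zpowers_iff.1 hn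
    rw [(show Commute g (a ^ i) from Commute.zpow_right (c.comm_a g).symm i).eq,
      mul_inv_cancel_right]
    exact zpow_mem (mem_zpowers a) i⟩
  set ρ := QuotientGroup.mk' (zpowers a) with hρ
  have hkerρ : ∀ x : X, ρ x = 1 ↔ x ∈ zpowers a := fun x => QuotientGroup.eq_one_iff x
  have ha2 : IsPGroup 2 (zpowers a) := IsPGroup.of_card (n := 1) (by rw [Nat.card_zpowers, c.invol, pow_one])
  set H := J ⊔ zpowers b with hH
  have hHJ : H ≤ normalizer (J : Set X) := sup_le le_normalizer (zpowers_le.2 hbJ)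
  let Y : Subgroup (X ⧸ zpowers a) := H.map ρ
  let z : Y := ⟨ρ b, mem_map_of_mem ρ (mem_sup_right (mem_zpowers b))⟩
  have hdecomp : ∀ h ∈ H, ∃ j ∈ J, ∃ i : ℤ, h = j * b ^ i := fun h hh => by
    have h1 : h ∈ (J : Set X) * (zpowers b : Set X) := by
      rw [← Subgroup.coe_mul_of_right_le_normalizer_left J (zpowers b) (zpowers_le.2 hbJ)]
      exact hh
    obtain ⟨j, hj, y, hy, rfl⟩ := h1
    obtain ⟨i, rfl⟩ := mem_zpowers_iff.1 hy
    exact ⟨j, hj, i, rfl⟩
  have hz2 : orderOf z = 2 := by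
    refine order_of_mul_self (Subtype.ext ?_) fun e => hba ?_
    · show ρ b * ρ b = 1
      rw [← map_mul, hbb, map_one]
    · obtain ⟨i, hi⟩ := mem_zpowers_iff.1 ((hkerρ b).1 (congrArg Subtype.val e))
      rcases Int.even_or_odd i with ⟨k, hk⟩ | ⟨k, hk⟩
      · exfalso
        rw [hk, zpow_add, ← (Commute.refl a).mul_zpow, haa, one_zpow] at hi
        exact ne_one_of_order hb2 hi.symm
      · rw [hk, zpow_add, zpow_one, zpow_mul, show (a ^ (2 : ℤ)) = 1 by rw [zpow_two, haa], one_zpow, one_mul] at hi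
        exact hi.symm
  obtain ⟨P, hP⟩ := (IsPGroup.of_card (n := 1) (by rw [Nat.card_zpowers, hz2, pow_one]) :
    IsPGroup 2 (zpowers z)).exists_le_sylow
  have hiso : ∀ g : Y, g * z * g⁻¹ ∈ (P : Subgroup Y) → g * z * g⁻¹ = z := by
    rintro ⟨_, h, hh, rfl⟩ hg
    obtain ⟨Q, hQ⟩ : ∃ Q : Sylow 2 X, ((P : Subgroup Y).map Y.subtype).comap ρ ≤ (Q : Subgroup X) :=
      ((P.2.map Y.subtype).comap_of_ker_isPGroup ρ (by rw [hρ, QuotientGroup.ker_mk']; exact ha2)).exists_le_sylow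
    have h1 : b ∈ (Q : Subgroup X) := hQ ⟨z, hP (mem_zpowers z), rfl⟩
    have h2 : h * b * h⁻¹ ∈ (Q : Subgroup X) := hQ ⟨_, hg, by simp [z]⟩
    rw [c.uniq b hb hb2 hba Q h1] at h2
    have hJm : h * b * h⁻¹ * b ∈ J := by
      obtain ⟨j, hj, i, rfl⟩ := hdecomp h hh
      rw [show j * b ^ i * b * (j * b ^ i)⁻¹ * b = j * (b * j⁻¹ * b⁻¹) * (b * b) by group, hbb, mul_one]
      exact mul_mem hj ((mem_normalizer_iff.1 hbJ _).1 (inv_mem hj))
    have hcm : Commute (h * b * h⁻¹) b := c.cen b hb hb2 _ h2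
    have hbs : h * b * h⁻¹ * b ∈ zpowers a := by
      by_cases h1' : h * b * h⁻¹ * b = 1
      · rw [h1']; exact one_mem _
      · rw [hcon _ ⟨mul_mem h2 hb, hJm⟩ (order_of_mul_self (by
          rw [← pow_two, hcm.mul_pow, pow_two, pow_two, show h * b * h⁻¹ * (h * b * h⁻¹) = h * (b * b) * h⁻¹ by group, hbb]
          group) h1')]
        exact mem_zpowers a
    refine Subtype.ext ?_
    show ρ h * ρ b * (ρ h)⁻¹ = ρ b
    rw [← map_inv, ← map_mul, ← map_mul, ← mul_inv_eq_one, ← map_inv, ← map_mul, inv_eq_of_mul_eq_one_right hbb,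
      hkerρ]
    exact hbs
  -- the odd core of `Y` is trivial
  have hcoreY : Cfsg.oddCore Y = ⊥ := by
    obtain ⟨N, hN⟩ : ∃ N, N = Cfsg.oddCore Y := ⟨_, rfl⟩
    haveI : N.Normal := hN ▸ inferInstance
    have hNodd : Odd (Nat.card N) := hN ▸ Char.card_oddCore_odd Y
    have hNJ : ∀ n ∈ N, ∃ j ∈ J, ρ j = (n : X ⧸ zpowers a) := by
      intro n hn
      obtain ⟨k, hk⟩ : Odd (orderOf n) := hNodd.of_dvd_nat ((Subgroup.orderOf_mk n hn) ▸ orderOf_dvd_natCard _)
      have hsq : ∀ y : Y, ∃ j ∈ J, ρ j = ((y * y : Y) : X ⧸ zpowers a) := by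
        rintro ⟨_, h, hh, rfl⟩
        obtain ⟨j, hj, i, rfl⟩ := hdecomp h hh
        refine ⟨j * (b ^ i * j * (b ^ i)⁻¹), mul_mem hj ((mem_normalizer_iff.1 (zpow_mem hbJ i) _).1 hj), ?_⟩
        show ρ _ = ρ (j * b ^ i) * ρ (j * b ^ i)
        rw [← map_mul]
        congr 1
        have hb2i : b ^ i * b ^ i = 1 := by rw [← (Commute.refl b).mul_zpow, hbb, one_zpow]
        rw [show (b ^ i)⁻¹ = b ^ i from inv_eq_of_mul_eq_one_right hb2i]
        group
      obtain ⟨j, hj, e⟩ := hsq (n ^ (k + 1))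
      refine ⟨j, hj, ?_⟩
      rw [e, ← pow_add, show k + 1 + (k + 1) = orderOf n + 1 by omega, pow_succ, pow_orderOf_eq_one, one_mul]
    let M : Subgroup X := J ⊓ ((N.map Y.subtype).comap ρ)
    haveI : (M.subgroupOf J).Normal := ⟨fun m hm j => mem_subgroupOf.2 ⟨(j * m * j⁻¹).2, by
      obtain ⟨n, hn, e⟩ := (mem_subgroupOf.1 hm).2
      refine ⟨⟨ρ j, mem_map_of_mem ρ (mem_sup_left j.2)⟩ * n * (⟨ρ j, mem_map_of_mem ρ (mem_sup_left j.2)⟩ : Y)⁻¹,
        ‹N.Normal›.conj_mem n hn _, ?_⟩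
      show ρ j * (n : X ⧸ zpowers a) * (ρ j)⁻¹ = ρ ((j : X) * m * (j : X)⁻¹)
      rw [map_mul, map_mul, map_inv, ← e]
      rfl⟩⟩
    refine (Subgroup.eq_bot_iff_forall _).2 fun n hn => ?_
    rw [← hN] at hn
    rcases Solv.qs_normal_le_center_or_top hJ.2 (M.subgroupOf J) with htop | hle
    · -- then `J` has odd image, so its 2-elements lie in `⟨a⟩`
      exfalso
      refine comp_not_norm hJ S fun j hj => mem_normalizer_fintype fun y hy => ?_
      have hmem : (⟨y, hy.2⟩ : J) ∈ M.subgroupOf J := htop.symm ▸ mem_top _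
      obtain ⟨n', hn', e⟩ := (mem_subgroupOf.1 hmem).2
      obtain ⟨k, hk⟩ := S.2 ⟨y, hy.1⟩
      have hk' : y ^ 2 ^ k = 1 := congrArg Subtype.val hk
      have hy1 : ρ y = 1 := by
        have ho : Odd (orderOf (ρ y)) := by
          rw [show ρ y = Y.subtype n' from e.symm, Subgroup.coe_subtype, Subgroup.orderOf_coe]
          exact hNodd.of_dvd_nat ((Subgroup.orderOf_mk n' hn') ▸ orderOf_dvd_natCard _)
        exact orderOf_eq_one_iff.1 (Nat.eq_one_of_dvd_coprimes (ho.coprime_two_right.pow_right k) dvd_rfl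
          (orderOf_dvd_of_pow_eq_one (by rw [← map_pow, hk', map_one])))
      obtain ⟨i, hi⟩ := mem_zpowers_iff.1 ((hkerρ y).1 hy1)
      rwa [show j * y * j⁻¹ = y by
        rw [← hi, (show Commute j (a ^ i) from Commute.zpow_right (c.comm_a j).symm i).eq, mul_inv_cancel_right]]
    · obtain ⟨j, hj, e⟩ := hNJ n hn
      obtain ⟨k, hk⟩ := comp_center_two hJ c.core ⟨⟨j, hj⟩,
        hle (mem_subgroupOf.2 ⟨hj, n, hn, e.symm⟩)⟩
      have hk' : j ^ 2 ^ k = 1 := congrArg (fun w : Subgroup.center J => ((w : J) : X)) hk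
      have ho : Odd (orderOf n) := hNodd.of_dvd_nat ((Subgroup.orderOf_mk n hn) ▸ orderOf_dvd_natCard _)
      exact orderOf_eq_one_iff.1 (Nat.eq_one_of_dvd_coprimes (ho.coprime_two_right.pow_right k) dvd_rfl
        (orderOf_dvd_of_pow_eq_one (Subtype.ext (by
          rw [SubgroupClass.coe_pow, ← e, ← map_pow, hk', map_one]; rfl))))
  have hzc := Char.zStar_central (Char.oddInvol_of_isolated_sylow hz2 (hP (mem_zpowers z)) hiso) hcoreY
  -- so `b` centralises `J`
  refine comp_not_le_norm hJ S (le_trans ?_ (c.cent_le hb hb2 hba))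
  have key : ∀ j ∈ J, ∃ i : ℤ, b * j * b⁻¹ = a ^ i * j := by
    intro j hj
    have h1 : ρ b * ρ j = ρ j * ρ b :=
      congrArg Subtype.val (hzc ⟨ρ j, mem_map_of_mem ρ (mem_sup_left hj)⟩)
    obtain ⟨i, hi⟩ := mem_zpowers_iff.1 ((hkerρ (b * j * b⁻¹ * j⁻¹)).1 (by
      rw [map_mul, map_mul, map_mul, map_inv, map_inv, h1, mul_inv_cancel_right, mul_inv_cancel]))
    exact ⟨i, by rw [hi]; group⟩
  rw [← Solv.qs_self_commutator hJ.2]
  refine commutator_le.2 fun p hp q hq => mem_centralizer_singleton_iff.2 ?_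
  obtain ⟨i, hi⟩ := key p hp
  obtain ⟨k, hk⟩ := key q hq
  have hc : ∀ (l : ℤ) (g : X), Commute (a ^ l) g := fun l g => Commute.zpow_left (c.comm_a g) l
  have h3 : b * ⁅p, q⁆ * b⁻¹ = ⁅p, q⁆ := by
    rw [show b * ⁅p, q⁆ * b⁻¹ = ⁅b * p * b⁻¹, b * q * b⁻¹⁆ by simp only [commutatorElement_def]; group, hi, hk]
    calc ⁅a ^ i * p, a ^ k * q⁆ = a ^ i * (p * a ^ k) * (q * p⁻¹) * ((a ^ i)⁻¹ * q⁻¹) * (a ^ k)⁻¹ := by
          simp only [commutatorElement_def]; group
      _ = a ^ i * (a ^ k * p) * (q * p⁻¹) * (q⁻¹ * (a ^ i)⁻¹) * (a ^ k)⁻¹ := by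
          rw [(hc k p).eq, ((hc i q⁻¹).inv_left).eq]
      _ = (a ^ i * a ^ k) * ⁅p, q⁆ * ((a ^ i)⁻¹ * (a ^ k)⁻¹) := by simp only [commutatorElement_def]; group
      _ = ⁅p, q⁆ * (a ^ i * a ^ k) * ((a ^ i)⁻¹ * (a ^ k)⁻¹) := by rw [← zpow_add, (hc (i + k) ⁅p, q⁆).eq]
      _ = ⁅p, q⁆ := by group
  exact (mul_inv_eq_iff_eq_mul.1 h3).symm

theorem comp_unique' {L : Subgroup X} (hL : Cfsg.IsComponent L) : L = J := by
  by_contra hne
  obtain ⟨x, hx, hx2, hxa⟩ := c.exists_in_comp hJ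
  have hc := Subgroup.commutator_eq_bot_iff_le_centralizer.1 (Solv.components_commute hL hJ hne)
  exact comp_not_le_norm hL S (le_trans (fun l hl => mem_centralizer_singleton_iff.2
    (mem_centralizer_iff.1 (hc hl) x hx.2).symm) (c.cent_le hx.1 hx2 hxa))

theorem comp_normal' : J.Normal :=
  Fusion.normal_iff_cj.2 fun g => c.comp_unique' hJ (Solv.component_conj hJ g)

/-- One of `y`, `y a` lies in the component. -/
theorem mem_or {y : X} (hy : y ∈ (S : Subgroup X)) (hy2 : orderOf y = 2) (hya : y ≠ a) : y ∈ J ∨ y * a ∈ J := by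
  haveI := c.comp_normal' hJ
  obtain ⟨x, hx, hx2, hxa⟩ := c.exists_in_comp hJ
  obtain ⟨g, e | e⟩ := c.orbit x hx.1 hx2 hxa y hy hy2 hya
  · exact Or.inl (e ▸ ‹J.Normal›.conj_mem x hx.2 g)
  · refine Or.inr ?_
    rw [e, mul_assoc, mul_self_of_order c.invol, mul_one]
    exact ‹J.Normal›.conj_mem x hx.2 g

end Loc

end Cfsg.Agent.RankOneCI
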