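import Cfsg.Agent.Lib.RankOneCI.Reduce

/-!
# Simple groups with central intersections of 2-rank at most one

Either the Sylow 2-subgroups are abelian, or all centralisers of 2-central involutions normalise their Sylow
2-subgroups, or the Sylow 2-subgroups have the type of those of `U₃(4)`.
-/

set_option autoImplicit false
set_option linter.style.haveILetI false
set_option linter.unusedSectionVars false
set_option linter.dupNamespace false

namespace Cfsg.Agent.RankOneCI

open Subgroup Cfsg.Agent Cfsg.Agent.CI Cfsg.Agent.Solv.AbelianTwo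

universe u

variable {G : Type u} [Group G] [Finite G] [IsSimpleGroup G]

theorem target_of (crit : SECrit.Crit.{u})
    (psu : ∀ {F : Type} [Field F] [Fintype F], Fintype.card F = 16 → ∀ S : Sylow 2 G,
      UFour.U4 (S : Subgroup G) → Nonempty (G ≃* Cfsg.PSU 3 F 4))
    (hna : ¬ IsMulCommutative G) (h : RI G) : Target G := by
  by_cases hgood : ∀ (S : Sylow 2 G) (a : G), a ∈ (S : Subgroup G) → orderOf a = 2 → Cen S a →
      centralizer ({a} : Set G) ≤ normalizer ((S : Subgroup G) : Set G)
  · exact good_case crit hna h hgood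
  push Not at hgood
  obtain ⟨S, a, ha, ha2, hac, hout⟩ := hgood
  have c : Bad S a := ⟨h, ‹_›, hna, ha, ha2, hac, hout⟩
  by_cases hab : IsMulCommutative (S : Subgroup G)
  · refine abelian_case hna h fun T => ⟨⟨fun p q => ?_⟩⟩
    obtain ⟨e⟩ : Nonempty ((T : Subgroup G) ≃* (S : Subgroup G)) := ⟨T.equiv S⟩
    exact e.injective (by rw [map_mul, map_mul]; exact hab.is_comm.comm _ _)
  haveI : Fact (Nat.Prime 2) := ⟨Nat.prime_two⟩
  letI : Fintype (GaloisField 2 4) := Fintype.ofFinite _
  have hF : Fintype.card (GaloisField 2 4) = 16 := by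
    rw [← Nat.card_eq_fintype_card, GaloisField.card 2 4 (by norm_num)]; norm_num
  exact Or.inr (Or.inr (Or.inl ⟨2, GaloisField 2 4, inferInstance, inferInstance, le_rfl, by rw [hF]; norm_num,
    psu hF S (c.u4 hab crit)⟩))

end Cfsg.Agent.RankOneCI
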