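import Cfsg.Agent.Lib.RankOneCI.Cases
import Cfsg.Agent.Lib.RankOneCI.CompCases
import Cfsg.Agent.Lib.RankOneCI.FourCenter
import Cfsg.Agent.Lib.Lead.PGV.TwoConf
import Cfsg.Agent.Lib.Perm.NoFixConj.Solvable
import Cfsg.Agent.Lib.Solv.PGroupPhi
import Cfsg.Agent.S3776

/-!
# A bad involution and a nonabelian Sylow 2-subgroup

`S` is special with all its involutions central. With more than three of them the odd core of `C(a)` centralises `S`,
so the quotient has a component, there are fifteen involutions and `N(S)` cannot act on them as it does. So there are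
three.
-/

set_option autoImplicit false
set_option linter.style.haveILetI false
set_option linter.unusedSectionVars false
set_option linter.dupNamespace false

namespace Cfsg.Agent.RankOneCI

open Subgroup Cfsg.Agent Cfsg.Agent.CI
open scoped commutatorElement Pointwise

universe u

variable {G : Type u} [Group G] [Finite G]

theorem norm_solvable (S : Sylow 2 G) : Group.IsSolvable (normalizer ((S : Subgroup G) : Set G)) := by
  haveI : Fact (Nat.Prime 2) := ⟨Nat.prime_two⟩
  obtain ⟨K, hK⟩ : ∃ K, K = (S : Subgroup G).subgroupOf (normalizer ((S : Subgroup G) : Set G)) := ⟨_, rfl⟩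
  haveI : K.Normal := hK ▸ Subgroup.normal_in_normalizer
  have hK2 : IsPGroup 2 K := hK ▸ S.2.comap_of_injective _ Subtype.val_injective
  haveI : Group.IsNilpotent K := hK2.isNilpotent
  haveI : Group.IsSolvable K := inferInstance
  have hodd : Odd (Nat.card (normalizer ((S : Subgroup G) : Set G) ⧸ K)) := by
    refine Nat.not_even_iff_odd.1 fun he => S.not_dvd_index (he.two_dvd.trans ?_)
    rw [← Subgroup.index_eq_card, hK]
    exact Subgroup.relIndex_dvd_index_of_le le_normalizer
  haveI : Group.IsSolvable (normalizer ((S : Subgroup G) : Set G) ⧸ K) := Bender.AbelianSolvable.odd_solvable' hodd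
  exact Group.isSolvable_of_ker_le_range K.subtype (QuotientGroup.mk' K)
    (by rw [QuotientGroup.ker_mk', Subgroup.range_subtype])

namespace Bad

variable {S : Sylow 2 G} {a : G} (c : Bad S a) (hab : ¬ IsMulCommutative (S : Subgroup G))
include c

/-- Conjugation by `N(S)` moves any involution of `S` to any other. -/
theorem conj_all {x y : G} (hx : x ∈ (S : Subgroup G)) (hx2 : orderOf x = 2) (hy : y ∈ (S : Subgroup G))
    (hy2 : orderOf y = 2) : ∃ n ∈ normalizer ((S : Subgroup G) : Set G), n * x * n⁻¹ = y := by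
  obtain ⟨n, hn, e⟩ := c.conj_a hx hx2
  obtain ⟨m, hm, e'⟩ := c.conj_a hy hy2
  exact ⟨m * n⁻¹, mul_mem hm (inv_mem hn), by rw [← e, ← e']; group⟩

theorem auto {x y : (S : Subgroup G)} (hx : orderOf x = 2) (hy : orderOf y = 2) :
    ∃ α ∈ ((S : Subgroup G).normalizerMonoidHom).range, α x = y := by
  rw [← Subgroup.orderOf_coe] at hx hy
  obtain ⟨n, hn, e⟩ := c.conj_all x.2 hx y.2 hy
  exact ⟨_, ⟨⟨n, hn⟩, rfl⟩, Subtype.ext e⟩

include hab

/-- `S` is special and its involutions are central. -/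
theorem special : commutator (S : Subgroup G) = Subgroup.center (S : Subgroup G) ∧
    (∀ x : (S : Subgroup G), x * x = 1 ↔ x ∈ Subgroup.center (S : Subgroup G)) ∧
    ∀ x : (S : Subgroup G), x * x ∈ Subgroup.center (S : Subgroup G) := by
  haveI : Fact (Nat.Prime 2) := ⟨Nat.prime_two⟩
  obtain ⟨b, hb, hb2, hba, -⟩ := c.exists_other_cen
  haveI := norm_solvable S
  obtain ⟨h1, h2, h3⟩ := S3776.result S.2 hab
    ⟨⟨a, c.mem⟩, ⟨b, hb⟩, fun e => hba (congrArg Subtype.val e).symm,
      fun e => ne_one_of_order c.invol (congrArg Subtype.val e),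
      Subtype.ext (by rw [SubgroupClass.coe_pow, pow_two]; exact mul_self_of_order c.invol),
      fun e => ne_one_of_order hb2 (congrArg Subtype.val e),
      Subtype.ext (by rw [SubgroupClass.coe_pow, pow_two]; exact mul_self_of_order hb2)⟩
    ⟨((S : Subgroup G).normalizerMonoidHom).range,
      Group.isSolvable_of_surjective (f := ((S : Subgroup G).normalizerMonoidHom).rangeRestrict)
        (MonoidHom.rangeRestrict_surjective _),
      fun x y hx hx' hy hy' => c.auto (orderOf_eq_prime hx' hx) (orderOf_eq_prime hy' hy)⟩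
  refine ⟨h1.trans h2, fun x => by rw [← pow_two]; exact (h3 x).symm, fun x => ?_⟩
  rw [← h2, ← pow_two]
  exact Solv.pow_mem_frattini S.2 x

theorem invol_derived {x : (S : Subgroup G)} (hx : orderOf x = 2) : x ∈ commutator (S : Subgroup G) := by
  obtain ⟨h1, h2, -⟩ := c.special hab
  rw [h1, ← h2]
  exact mul_self_of_order hx

/-- An element of the odd core of `C(a)` normalising `S` centralises it. -/
theorem core_norm {t : centralizer ({a} : Set G)} (ht : t ∈ Cfsg.oddCore (centralizer ({a} : Set G)))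
    (hn : (t : G) ∈ normalizer ((S : Subgroup G) : Set G)) : (t : G) ∈ centralizer ((S : Subgroup G) : Set G) := by
  refine mem_centralizer_iff.2 fun s hs => ?_
  obtain ⟨θ, hθ⟩ : ∃ θ, θ = Cfsg.oddCore (centralizer ({a} : Set G)) := ⟨_, rfl⟩
  haveI : θ.Normal := hθ ▸ inferInstance
  rw [← hθ] at ht
  set sC : centralizer ({a} : Set G) := ⟨s, mem_centralizer_singleton_iff.2 (c.cen s hs).eq⟩
  have h1 : t * sC * t⁻¹ * sC⁻¹ ∈ θ := by
    rw [show t * sC * t⁻¹ * sC⁻¹ = t * (sC * t⁻¹ * sC⁻¹) by group]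
    exact mul_mem ht (‹θ.Normal›.conj_mem _ (inv_mem ht) sC)
  have h2 : ((t * sC * t⁻¹ * sC⁻¹ : centralizer ({a} : Set G)) : G) ∈ (S : Subgroup G) :=
    mul_mem ((mem_normalizer_iff.1 hn s).1 hs) (inv_mem hs)
  obtain ⟨k, hk⟩ := S.2 ⟨_, h2⟩
  have hodd : Odd (orderOf (t * sC * t⁻¹ * sC⁻¹)) :=
    (hθ ▸ Char.card_oddCore_odd _ : Odd (Nat.card θ)).of_dvd_nat (Subgroup.orderOf_mk _ h1 ▸ orderOf_dvd_natCard _)
  have h3 : t * sC * t⁻¹ * sC⁻¹ = 1 := orderOf_eq_one_iff.1
    (Nat.eq_one_of_dvd_coprimes (hodd.coprime_two_right.pow_right k) dvd_rfl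
      (orderOf_dvd_of_pow_eq_one (Subtype.ext (congrArg Subtype.val hk :))))
  rw [mul_inv_eq_one, mul_inv_eq_iff_eq_mul] at h3
  exact (congrArg Subtype.val h3).symm

/-- With two independent involutions beside `a` the odd core centralises `S`. -/
theorem core_cent {x y : G} (hx : x ∈ (S : Subgroup G)) (hx2 : orderOf x = 2) (hxa : x ≠ a)
    (hy : y ∈ (S : Subgroup G)) (hy2 : orderOf y = 2) (hya : y ≠ a) (hxy : y ≠ x) (hxya : x * y ≠ a)
    {t : centralizer ({a} : Set G)} (ht : t ∈ Cfsg.oddCore (centralizer ({a} : Set G))) :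
    (t : G) ∈ centralizer ((S : Subgroup G) : Set G) := by
  obtain ⟨θ, hθ⟩ : ∃ θ, θ = Cfsg.oddCore (centralizer ({a} : Set G)) := ⟨_, rfl⟩
  haveI : θ.Normal := hθ ▸ inferInstance
  rw [← hθ] at ht
  have hC : ∀ s ∈ (S : Subgroup G), s ∈ centralizer ({a} : Set G) := fun s hs =>
    mem_centralizer_singleton_iff.2 (c.cen s hs).eq
  set xC : centralizer ({a} : Set G) := ⟨x, hC x hx⟩
  set yC : centralizer ({a} : Set G) := ⟨y, hC y hy⟩
  have hxx : xC * xC = 1 := Subtype.ext (mul_self_of_order hx2)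
  have hyy : yC * yC = 1 := Subtype.ext (mul_self_of_order hy2)
  have hcm : Commute xC yC := Subtype.ext (c.all_cen hy hy2 x hx).eq
  have hfix : ∀ z : centralizer ({a} : Set G), (z : G) ∈ (S : Subgroup G) → orderOf (z : G) = 2 → (z : G) ≠ a →
      ∀ q : θ, z * q * z⁻¹ = q → (q : centralizer ({a} : Set G)).1 ∈ centralizer ((S : Subgroup G) : Set G) := by
    intro z hz hz2 hza q hq
    refine c.core_norm hab (hθ ▸ q.2) (c.norm_of hz hz2 hza q.1.2 ?_)
    rw [show (q.1 : G) * z * (q.1 : G)⁻¹ = z from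
      mul_inv_eq_iff_eq_mul.2 (mul_inv_eq_iff_eq_mul.1 (congrArg Subtype.val hq)).symm]
    exact hz
  have key := PGV.four_generation (Q := θ) (hθ ▸ Char.card_oddCore_odd _) (MulAut.conjNormal xC) (MulAut.conjNormal yC)
    (by rw [← map_mul, hxx, map_one]) (by rw [← map_mul, hyy, map_one]) (hcm.map MulAut.conjNormal)
    ((centralizer ((S : Subgroup G) : Set G)).comap ((centralizer ({a} : Set G)).subtype.comp θ.subtype))
    (fun q hq => hfix xC hx hx2 hxa q (congrArg Subtype.val hq))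
    (fun q hq => hfix yC hy hy2 hya q (congrArg Subtype.val hq))
    (fun q hq => hfix (xC * yC) (mul_mem hx hy)
      (order_of_mul_self (by
        show x * y * (x * y) = 1
        rw [mul_assoc, ← mul_assoc y, ← (c.all_cen hy hy2 x hx).eq, mul_assoc x y y, mul_self_of_order hy2, mul_one,
          mul_self_of_order hx2]) fun e => hxy (by
        show y = x
        rw [eq_inv_of_mul_eq_one_right (show x * y = 1 from e), inv_eq_of_mul_eq_one_right (mul_self_of_order hx2)]))
      hxya q (by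
        rw [← MulAut.mul_apply, ← map_mul] at hq
        exact congrArg Subtype.val hq))
    ⟨t, ht⟩
  exact key

omit hab in
/-- `N(S)` cannot act on fifteen involutions in this way. -/
theorem not_sixteen : Nat.card {s : (S : Subgroup G) // (s : G) * s = 1} ≠ 16 := by
  classical
  intro h16
  let Ω := {x : G // x ∈ (S : Subgroup G) ∧ orderOf x = 2}
  haveI := Fintype.ofFinite Ω
  have hΩ : Fintype.card Ω = 15 := by
    have e : {s : (S : Subgroup G) // (s : G) * s = 1} ≃ Option Ω :=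
      { toFun := fun s => if h : (s.1 : G) = 1 then none else some ⟨s.1, s.1.2, order_of_mul_self s.2 h⟩
        invFun := fun o => o.elim ⟨1, by simp⟩ fun x => ⟨⟨x.1, x.2.1⟩, mul_self_of_order x.2.2⟩
        left_inv := fun s => by
          by_cases h : (s.1 : G) = 1
          · simp only [h, dif_pos, Option.elim]; exact Subtype.ext (Subtype.ext h.symm)
          · simp [h]
        right_inv := fun o => by
          rcases o with _ | x
          · simp
          · simp [ne_one_of_order x.2.2] }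
    rw [Nat.card_congr e, Finite.card_option, Nat.card_eq_fintype_card] at h16
    omega
  have hmem : ∀ (n : normalizer ((S : Subgroup G) : Set G)) (x : Ω),
      (n : G) * x * (n : G)⁻¹ ∈ (S : Subgroup G) ∧ orderOf ((n : G) * x * (n : G)⁻¹) = 2 := fun n x =>
    ⟨(mem_normalizer_iff.1 n.2 x).1 x.2.1, by rw [orderOf_conj']; exact x.2.2⟩
  let φ : normalizer ((S : Subgroup G) : Set G) →* Equiv.Perm Ω :=
    { toFun := fun n =>
        { toFun := fun x => ⟨(n : G) * x * (n : G)⁻¹, hmem n x⟩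
          invFun := fun x => ⟨((n⁻¹ : normalizer ((S : Subgroup G) : Set G)) : G) * x * _, hmem n⁻¹ x⟩
          left_inv := fun x => Subtype.ext (by simp [mul_assoc])
          right_inv := fun x => Subtype.ext (by simp [mul_assoc]) }
      map_one' := Equiv.ext fun x => Subtype.ext (by simp)
      map_mul' := fun n m => Equiv.ext fun x => Subtype.ext (by simp [mul_assoc]) }
  let aΩ : Ω := ⟨a, c.mem, c.invol⟩
  obtain ⟨b, hb, hb2, hba, -⟩ := c.exists_other_cen
  have htrans : ∀ y : Ω, ∃ γ : φ.range, γ • aΩ = y := fun y => by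
    obtain ⟨n, hn, e⟩ := c.conj_a y.2.1 y.2.2
    exact ⟨⟨φ ⟨n, hn⟩, _, rfl⟩, Subtype.ext e⟩
  haveI : Nontrivial φ.range := by
    obtain ⟨γ, hγ⟩ := htrans ⟨b, hb, hb2⟩
    refine ⟨⟨γ, 1, fun e => hba ?_⟩⟩
    rw [e, one_smul] at hγ
    exact (congrArg Subtype.val hγ).symm
  haveI := norm_solvable S
  obtain ⟨A, hA, hA1, hAc⟩ := Perm.NoFixConj.exists_abelian_normal_ne_bot
    (Group.isSolvable_of_surjective (f := φ.rangeRestrict) (MonoidHom.rangeRestrict_surjective φ))
  haveI := hA
  obtain ⟨p, hp, hpd⟩ := Nat.exists_prime_and_dvd (show Nat.card A ≠ 1 from fun h => hA1 (Subgroup.card_eq_one.1 h))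
  haveI : Fact p.Prime := ⟨hp⟩
  let E : Subgroup φ.range :=
    { carrier := {e | e ∈ A ∧ e ^ p = 1}
      one_mem' := ⟨one_mem _, one_pow p⟩
      mul_mem' := fun {e f} he hf => ⟨mul_mem he.1 hf.1, by rw [(hAc e he.1 f hf.1).mul_pow, he.2, hf.2, one_mul]⟩
      inv_mem' := fun {e} he => ⟨inv_mem he.1, by rw [inv_pow, he.2, inv_one]⟩ }
  have hEn : ∀ (γ : φ.range), ∀ e ∈ E, γ * e * γ⁻¹ ∈ E := fun γ e he =>
    ⟨hA.conj_mem e he.1 γ, by rw [conj_pow, he.2, mul_one, mul_inv_cancel]⟩
  have hE : IsPGroup p E := fun e => ⟨1, Subtype.ext (by rw [pow_one, SubgroupClass.coe_pow]; exact e.2.2)⟩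
  obtain ⟨e₀, he₀, he₀1⟩ : ∃ e ∈ E, e ≠ 1 := by
    obtain ⟨g, hg⟩ := exists_prime_orderOf_dvd_card' (G := A) p hpd
    rw [← Subgroup.orderOf_coe] at hg
    refine ⟨g, ⟨g.2, hg ▸ pow_orderOf_eq_one _⟩, fun e => hp.one_lt.ne ?_⟩
    rw [← hg, e, orderOf_one]
  set B : Finset Ω := Finset.univ.filter fun y => ∃ e ∈ E, e • aΩ = y with hB
  have hBmem : ∀ y, y ∈ B ↔ ∃ e ∈ E, e • aΩ = y := fun y => by simp [hB]
  -- another point in the orbit of `a`
  obtain ⟨x, hxB, hxa⟩ : ∃ x ∈ B, x ≠ aΩ := by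
    by_contra h
    push Not at h
    refine he₀1 (Subtype.ext (Equiv.ext fun y => ?_))
    obtain ⟨γ, rfl⟩ := htrans y
    show (e₀ : φ.range) • γ • aΩ = γ • aΩ
    have h1 := h _ ((hBmem _).2 ⟨γ⁻¹ * e₀ * γ, by simpa using hEn γ⁻¹ e₀ he₀, rfl⟩)
    rw [← mul_smul, show e₀ * γ = γ * (γ⁻¹ * e₀ * γ) by group, mul_smul, h1]
  let τ : Ω → Ω := fun z => if h : (z : G) = a then z else
    ⟨(z : G) * a, (c.mul_a z.2.1 z.2.2 h).1, (c.mul_a z.2.1 z.2.2 h).2.1⟩
  have hcover : (Finset.univ : Finset Ω) ⊆ insert aΩ (B.erase aΩ ∪ (B.erase aΩ).image τ) := by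
    intro y _
    by_cases hy : (y : G) = a
    · exact Finset.mem_insert.2 (Or.inl (Subtype.ext hy))
    obtain ⟨n, hn, hna, e⟩ := c.stab_coset x.2.1 x.2.2 (fun e => hxa (Subtype.ext e)) y.2.1 y.2.2 hy
    set γ : φ.range := ⟨φ ⟨n, hn⟩, _, rfl⟩ with hγ
    have hγa : γ • aΩ = aΩ := Subtype.ext (by
      show n * a * n⁻¹ = a
      rw [mem_centralizer_singleton_iff.1 hna, mul_inv_cancel_right])
    have hzB : γ • x ∈ B.erase aΩ := by
      obtain ⟨f, hf, hfx⟩ := (hBmem x).1 hxB
      refine Finset.mem_erase.2 ⟨fun e => hxa ?_, (hBmem _).2 ⟨γ * f * γ⁻¹, hEn γ f hf, ?_⟩⟩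
      · rw [← hγa] at e; exact MulAction.injective γ e
      · rw [mul_smul, mul_smul, show γ⁻¹ • aΩ = aΩ by rw [inv_smul_eq_iff, hγa], hfx]
    refine Finset.mem_insert.2 (Or.inr (Finset.mem_union.2 ?_))
    rcases e with e | e
    · left
      rwa [show y = γ • x from Subtype.ext e]
    · right
      refine Finset.mem_image.2 ⟨γ • x, hzB, ?_⟩
      have hne : ((γ • x : Ω) : G) ≠ a := fun h => (Finset.mem_erase.1 hzB).1 (Subtype.ext h)
      simp only [τ, dif_neg hne]
      exact Subtype.ext e.symm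
  have h8 : 8 ≤ B.card := by
    have h1 := (Finset.card_le_card hcover).trans (Finset.card_insert_le _ _)
    have h2 := Finset.card_union_le (B.erase aΩ) ((B.erase aΩ).image τ)
    have h3 : ((B.erase aΩ).image τ).card ≤ (B.erase aΩ).card := Finset.card_image_le
    have h4 := Finset.card_erase_of_mem ((hBmem aΩ).2 ⟨1, one_mem _, one_smul _ _⟩)
    rw [Finset.card_univ, hΩ] at h1
    omega
  have hfull : B = Finset.univ := by
    refine Finset.eq_univ_of_forall fun y => by_contra fun hy => ?_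
    obtain ⟨γ, hγ⟩ := htrans y
    have hdisj : Disjoint B (B.image fun z => γ • z) := by
      refine Finset.disjoint_left.2 fun z hz hz' => hy ?_
      obtain ⟨w, hw, e⟩ := Finset.mem_image.1 hz'
      obtain ⟨f, hf, hfw⟩ := (hBmem w).1 hw
      obtain ⟨g, hg, hgz⟩ := (hBmem z).1 hz
      refine (hBmem y).2 ⟨(γ * f * γ⁻¹)⁻¹ * g, mul_mem (inv_mem (hEn γ f hf)) hg, ?_⟩
      rw [mul_smul, hgz, ← e, ← hfw, inv_smul_eq_iff, ← hγ, mul_smul, mul_smul, inv_smul_smul]
    have h1 := Finset.card_le_univ (B ∪ B.image fun z => γ • z)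
    rw [Finset.card_union_of_disjoint hdisj, Finset.card_image_of_injective _ (MulAction.injective γ), hΩ] at h1
    omega
  obtain ⟨k, hk⟩ := hE.card_orbit aΩ
  have h15 : p ^ k = 15 := by
    rw [← hk, show MulAction.orbit E aΩ = Set.univ from Set.eq_univ_of_forall fun y => by
      obtain ⟨e, he, hey⟩ := (hBmem y).1 (hfull.ge (Finset.mem_univ y))
      exact ⟨⟨e, he⟩, hey⟩, Nat.card_congr (Equiv.Set.univ Ω), Nat.card_eq_fintype_card, hΩ]
  have h3 : 3 = p := (Nat.prime_dvd_prime_iff_eq Nat.prime_three hp).1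
    (Nat.prime_three.dvd_of_dvd_pow (h15 ▸ (by norm_num : 3 ∣ 15)))
  have h5 : 5 = p := (Nat.prime_dvd_prime_iff_eq Nat.prime_five hp).1
    (Nat.prime_five.dvd_of_dvd_pow (h15 ▸ (by norm_num : 5 ∣ 15)))
  omega

/-- Three involutions. -/
theorem three (crit : SECrit.Crit.{u}) {x y : G} (hx : x ∈ (S : Subgroup G)) (hx2 : orderOf x = 2) (hxa : x ≠ a)
    (hy : y ∈ (S : Subgroup G)) (hy2 : orderOf y = 2) (hya : y ≠ a) : y = x ∨ y = x * a := by
  classical
  by_contra hcon
  push Not at hcon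
  have hxya : x * y ≠ a := fun e => hcon.2 (by
    rw [← e, ← mul_assoc, mul_self_of_order hx2, one_mul])
  have hSC : (S : Subgroup G) ≤ centralizer ({a} : Set G) := fun s hs =>
    mem_centralizer_singleton_iff.2 (c.cen s hs).eq
  set C := centralizer ({a} : Set G) with hC
  obtain ⟨θ, hθ⟩ : ∃ θ, θ = Cfsg.oddCore C := ⟨_, rfl⟩
  haveI : θ.Normal := hθ ▸ inferInstance
  have hodd : Odd (Nat.card θ) := hθ ▸ Char.card_oddCore_odd C
  have hcent : ∀ t ∈ θ, ((t : C) : G) ∈ centralizer ((S : Subgroup G) : Set G) := fun t ht =>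
    c.core_cent hab hx hx2 hxa hy hy2 hya hcon.1 hxya (hθ ▸ ht)
  have hone : ∀ u : C, u ∈ θ → (∃ k, u ^ 2 ^ k = 1) → u = 1 := fun u hu ⟨k, hk⟩ => orderOf_eq_one_iff.1
    (Nat.eq_one_of_dvd_coprimes
      (((hodd.of_dvd_nat (Subgroup.orderOf_mk u hu ▸ orderOf_dvd_natCard _)).coprime_two_right).pow_right k) dvd_rfl
      (orderOf_dvd_of_pow_eq_one hk))
  obtain ⟨π, hπ⟩ : ∃ π, π = QuotientGroup.mk' θ := ⟨_, rfl⟩
  have hπs : Function.Surjective π := hπ ▸ QuotientGroup.mk'_surjective θ
  have hker : ∀ u : C, π u = 1 ↔ u ∈ θ := fun u => hπ ▸ QuotientGroup.eq_one_iff u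
  let S' : Sylow 2 C := S.subtype hSC
  set T := Sylow.mapSurjective hπs S' with hT
  let ψ : (S : Subgroup G) →* C ⧸ θ := π.comp (Subgroup.inclusion hSC)
  have hψr : ψ.range = (T : Subgroup (C ⧸ θ)) := by
    rw [hT, Sylow.coe_mapSurjective, MonoidHom.range_comp, Subgroup.inclusion_range]
    rfl
  have hψi : Function.Injective ψ := (injective_iff_map_eq_one _).2 fun s hs => by
    obtain ⟨k, hk⟩ := S.2 s
    have h := hone _ ((hker _).1 hs) ⟨k, by rw [← map_pow, hk, map_one]⟩
    exact Subgroup.inclusion_injective hSC (h.trans (map_one _).symm)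
  have hmemT : ∀ z ∈ (T : Subgroup (C ⧸ θ)), ∃ s : (S : Subgroup G), ψ s = z := fun z hz => (hψr.ge hz :)
  have hψT : ∀ s, ψ s ∈ (T : Subgroup (C ⧸ θ)) := fun s => hψr.le ⟨s, rfl⟩
  set A : C := ⟨a, hSC c.mem⟩ with hA
  have hAψ : π A = ψ ⟨a, c.mem⟩ := rfl
  have hord : ∀ s : (S : Subgroup G), orderOf (ψ s) = orderOf (s : G) := fun s => by
    rw [orderOf_injective ψ hψi, Subgroup.orderOf_coe]
  have hne : ∀ s : (S : Subgroup G), ψ s ≠ π A → (s : G) ≠ a := fun s h e => h (by
    rw [hAψ]; exact congrArg ψ (Subtype.ext e))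
  obtain ⟨hS1, hS2, hS3⟩ := c.special hab
  have L : Loc T (π A) := by
    refine { core := ?_, mem := hAψ ▸ hψT ⟨a, c.mem⟩, invol := by rw [hAψ, hord]; exact c.invol, central := ?_, cen := ?_,
             uniq := ?_, other := ?_, orbit := ?_, notNormal := ?_, sq := ?_, derived := ?_, roots := ?_ }
    · subst hθ; exact Fusion.pPrimeCore_quotient_eq_bot
    · refine Subgroup.mem_center_iff.2 fun w => ?_
      obtain ⟨w, rfl⟩ := hπs w
      rw [← map_mul, ← map_mul]
      exact congrArg π (Subtype.ext (mem_centralizer_singleton_iff.1 w.2))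
    · intro z hz hz2 w hw
      obtain ⟨s, rfl⟩ := hmemT z hz
      obtain ⟨r, rfl⟩ := hmemT w hw
      rw [hord] at hz2
      exact Commute.map (show Commute r s from Subtype.ext (c.all_cen s.2 hz2 r r.2).eq) ψ
    · intro z hz hz2 hza R hzR
      obtain ⟨s, rfl⟩ := hmemT z hz
      rw [hord] at hz2
      obtain ⟨g, hg⟩ := MulAction.exists_smul_eq (C ⧸ θ) T R
      obtain ⟨g, rfl⟩ := hπs g
      rw [← hg, sylow_mem_smul] at hzR
      obtain ⟨r, hr⟩ := hmemT _ hzR
      set sC : C := Subgroup.inclusion hSC s with hsC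
      set v : C := g * Subgroup.inclusion hSC r * g⁻¹ with hv
      have hr2 : orderOf (r : G) = 2 := by
        rw [← hord, hr, show (π g)⁻¹ * ψ s * π g = (π g)⁻¹ * ψ s * (π g)⁻¹⁻¹ by group, orderOf_conj', hord, hz2]
      have hw : sC * v ∈ θ := by
        rw [← hker, map_mul, hv, map_mul, map_mul, map_inv, show π (Subgroup.inclusion hSC r) = ψ r from rfl, hr,
          show π sC = ψ s from rfl,
          show π g * ((π g)⁻¹ * ψ s * π g) * (π g)⁻¹ = ψ s by group, ← map_mul,
          show s * s = 1 from Subtype.ext (mul_self_of_order hz2), map_one]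
      have hss : sC * sC = 1 := Subtype.ext (mul_self_of_order hz2)
      have hvv : v * v = 1 := by
        rw [hv, show g * Subgroup.inclusion hSC r * g⁻¹ * (g * Subgroup.inclusion hSC r * g⁻¹) =
          g * (Subgroup.inclusion hSC r * Subgroup.inclusion hSC r) * g⁻¹ by group, ← map_mul,
          show r * r = 1 from Subtype.ext (mul_self_of_order hr2), map_one, mul_one, mul_inv_cancel]
      obtain ⟨m, hm⟩ := hodd.of_dvd_nat
        (show orderOf (sC * v) ∣ Nat.card θ by
          have h := _root_.orderOf_dvd_natCard (⟨sC * v, hw⟩ : θ)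
          rwa [Subgroup.orderOf_mk] at h)
      set w := sC * v with hwd
      have hinv : sC * w * sC⁻¹ = w⁻¹ := by
        rw [hwd, ← mul_assoc, hss, one_mul, mul_inv_rev, inv_eq_of_mul_eq_one_right hvv]
      have ht : w ^ (m + 1) * v * (w ^ (m + 1))⁻¹ = sC := by
        calc w ^ (m + 1) * v * (w ^ (m + 1))⁻¹ = sC * (sC * w ^ (m + 1) * sC⁻¹) * (sC * v) * (w ^ (m + 1))⁻¹ := by
              rw [inv_eq_of_mul_eq_one_right hss]
              calc w ^ (m + 1) * v * (w ^ (m + 1))⁻¹
                  = (sC * sC) * w ^ (m + 1) * (sC * sC) * v * (w ^ (m + 1))⁻¹ := by rw [hss, one_mul, mul_one]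
                _ = _ := by simp only [mul_assoc]
          _ = sC * ((w ^ (m + 1))⁻¹ * w * (w ^ (m + 1))⁻¹) := by rw [← conj_pow, hinv, inv_pow, ← hwd]; group
          _ = sC * (w ^ orderOf w)⁻¹ := by
              rw [hm]; group
          _ = sC := by rw [pow_orderOf_eq_one, inv_one, mul_one]
      have htg : ((w ^ (m + 1) * g : C) : G) ∈ normalizer ((S : Subgroup G) : Set G) := by
        have e : w ^ (m + 1) * g * Subgroup.inclusion hSC r * (w ^ (m + 1) * g)⁻¹ = sC := by
          rw [← ht, hv]; group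
        refine c.norm_of r.2 hr2 (fun e' => hza ?_) (w ^ (m + 1) * g).2 ?_
        · calc ψ s = π g * ψ r * (π g)⁻¹ := by rw [hr]; group
            _ = π A := by
                rw [show r = ⟨a, c.mem⟩ from Subtype.ext e', ← hAψ, ← map_mul, ← map_inv, ← map_mul]
                exact congrArg π (Subtype.ext (by
                  show (g : G) * a * (g : G)⁻¹ = a
                  rw [mem_centralizer_singleton_iff.1 g.2, mul_inv_cancel_right]))
        · have e' : ((w ^ (m + 1) * g : C) : G) * r * ((w ^ (m + 1) * g : C) : G)⁻¹ = (s : G) :=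
            congrArg Subtype.val e
          rw [e']
          exact s.2
      rw [← hg]
      have hgn : π g = π (w ^ (m + 1) * g) := by rw [map_mul, (hker _).2 (pow_mem hw _), one_mul]
      rw [hgn, Sylow.smul_eq_iff_mem_normalizer]
      refine mem_normalizer_fintype fun u hu => ?_
      obtain ⟨u, rfl⟩ := hmemT u hu
      exact hψr.le ⟨⟨_, (mem_normalizer_iff.1 htg u).1 u.2⟩, by
        show π _ = _ * π _ * _
        rw [← map_inv, ← map_mul, ← map_mul]; rfl⟩
    · refine ⟨ψ ⟨x, hx⟩, hψT _, by rw [hord]; exact hx2, fun e => hxa ?_⟩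
      rw [hAψ] at e
      exact congrArg Subtype.val (hψi e)
    · intro z hz hz2 hza w hw hw2 hwa
      obtain ⟨s, rfl⟩ := hmemT z hz
      obtain ⟨r, rfl⟩ := hmemT w hw
      rw [hord] at hz2 hw2
      obtain ⟨n, -, hna, e⟩ := c.stab_coset s.2 hz2 (hne s hza) r.2 hw2 (hne r hwa)
      refine ⟨π ⟨n, hna⟩, ?_⟩
      rcases e with e | e
      · left
        rw [← map_inv, show ψ s = π (Subgroup.inclusion hSC s) from rfl, ← map_mul, ← map_mul]
        exact congrArg π (Subtype.ext e)
      · right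
        rw [← map_inv, show ψ s = π (Subgroup.inclusion hSC s) from rfl, ← map_mul, ← map_mul, ← map_mul]
        exact congrArg π (Subtype.ext e)
    · intro hn
      obtain ⟨g, hg, hgn⟩ := SetLike.not_le_iff_exists.1 c.out
      refine hgn (mem_normalizer_fintype fun s hs => ?_)
      obtain ⟨r, hr⟩ := hmemT _ (hn.conj_mem _ (hψT ⟨s, hs⟩) (π ⟨g, hg⟩))
      set rC : C := Subgroup.inclusion hSC r with hrC
      set v : C := ⟨g, hg⟩ * Subgroup.inclusion hSC ⟨s, hs⟩ * (⟨g, hg⟩ : C)⁻¹ with hv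
      have ht : rC⁻¹ * v ∈ θ := by
        rw [← hker, map_mul, map_inv, hv, map_mul, map_mul, map_inv, show π rC = ψ r from rfl, hr]
        exact inv_mul_cancel _
      obtain ⟨k, hk⟩ := S.2 r
      obtain ⟨l, hl⟩ := S.2 ⟨s, hs⟩
      have hcm : Commute rC (rC⁻¹ * v) := Subtype.ext (mem_centralizer_iff.1 (hcent _ ht) r r.2)
      have hpow : (rC⁻¹ * v) ^ 2 ^ (k + l) = 1 := by
        have h1 : rC ^ 2 ^ (k + l) = 1 := by rw [hrC, ← map_pow, pow_add, pow_mul, hk, one_pow, map_one]
        have h2 : v ^ 2 ^ (k + l) = 1 := by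
          rw [hv, conj_pow, ← map_pow, pow_add, mul_comm (2 ^ k), pow_mul, hl, one_pow, map_one, mul_one,
            mul_inv_cancel]
        have h3 : v ^ 2 ^ (k + l) = rC ^ 2 ^ (k + l) * (rC⁻¹ * v) ^ 2 ^ (k + l) := by
          rw [← hcm.mul_pow, mul_inv_cancel_left]
        rwa [h1, h2, one_mul, eq_comm] at h3
      have he := hone _ ht ⟨_, hpow⟩
      rw [inv_mul_eq_one] at he
      show g * s * g⁻¹ ∈ (S : Subgroup G)
      rw [show g * s * g⁻¹ = (rC : G) from (congrArg Subtype.val he).symm]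
      exact r.2
    · intro z hz
      obtain ⟨s, rfl⟩ := hmemT z hz
      rw [← map_mul, ← map_mul, show s * s * (s * s) = 1 from (hS2 _).2 (hS3 s), map_one]
    · intro z hz hz2
      obtain ⟨s, rfl⟩ := hmemT z hz
      rw [hord, Subgroup.orderOf_coe] at hz2
      have h1 := mem_map_of_mem ψ (c.invol_derived hab hz2)
      rw [_root_.commutator_def, Subgroup.map_commutator, ← MonoidHom.range_eq_map, hψr] at h1
      exact h1
    · intro z hz hz2 w hw hw2
      obtain ⟨s, rfl⟩ := hmemT z hz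
      obtain ⟨r, rfl⟩ := hmemT w hw
      rw [hord] at hz2 hw2
      obtain ⟨n, hn, e⟩ := c.conj_all s.2 hz2 r.2 hw2
      let eT : (S : Subgroup G) ≃* (T : Subgroup (C ⧸ θ)) :=
        (MonoidHom.ofInjective hψi).trans (MulEquiv.subgroupCongr hψr)
      let α := (S : Subgroup G).normalizerMonoidHom ⟨n, hn⟩
      have hiff : ∀ (q : (S : Subgroup G)) (u : (S : Subgroup G)),
          ((eT q : (T : Subgroup (C ⧸ θ))) : C ⧸ θ) * (eT q : (T : Subgroup (C ⧸ θ))) = ψ u ↔ q * q = u := fun q u => by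
        rw [show ((eT q : (T : Subgroup (C ⧸ θ))) : C ⧸ θ) = ψ q from rfl, ← map_mul, hψi.eq_iff]
      rw [← Nat.card_congr (eT.toEquiv.subtypeEquiv fun q => (hiff q s).symm),
        ← Nat.card_congr (eT.toEquiv.subtypeEquiv fun q => (hiff q r).symm)]
      refine Nat.card_congr (α.toEquiv.subtypeEquiv fun q => ?_)
      show q * q = s ↔ α q * α q = r
      rw [← map_mul, show r = α s from Subtype.ext e.symm, α.injective.eq_iff]
  obtain ⟨J, hJ⟩ := L.exists_comp
  refine c.not_sixteen ((Nat.card_congr ?_).trans (L.sixteen hJ crit))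
  let eT : (S : Subgroup G) ≃* (T : Subgroup (C ⧸ θ)) :=
    (MonoidHom.ofInjective hψi).trans (MulEquiv.subgroupCongr hψr)
  refine eT.toEquiv.subtypeEquiv fun s => ?_
  show (s : G) * s = 1 ↔ ψ s * ψ s = 1
  rw [← map_mul, ← map_one ψ, hψi.eq_iff]
  exact (Subtype.ext_iff : s * s = 1 ↔ (s : G) * s = 1).symm

/-- `S` has the type of a Sylow 2-subgroup of `U₃(4)`. -/
theorem u4 (crit : SECrit.Crit.{u}) : UFour.U4 (S : Subgroup G) := by
  classical
  haveI := Fintype.ofFinite (S : Subgroup G)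
  obtain ⟨h1, h2, h3⟩ := c.special hab
  obtain ⟨b, hb, hb2, hba, -⟩ := c.exists_other_cen
  obtain ⟨hba1, hba2, hba3⟩ := c.mul_a hb hb2 hba
  have hbab : b * a ≠ b := fun e => ne_one_of_order c.invol (mul_left_cancel (e.trans (mul_one b).symm))
  refine Spec.u4 ⟨S.2, ?_, h2, h3, fun p q => h1 ▸ commutator_mem_commutator (mem_top p) (mem_top q), h1,
    fun v w hv hv1 hw hw1 => ?_⟩
  · haveI := Fintype.ofFinite (Subgroup.center (S : Subgroup G))
    let F : Finset G := {1, a, b, b * a}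
    have hF : F.card = 4 := by
      simp only [F]
      rw [Finset.card_insert_of_notMem, Finset.card_insert_of_notMem, Finset.card_pair hbab.symm]
      · simp [hba.symm, hba3.symm]
      · simp [(ne_one_of_order c.invol).symm, (ne_one_of_order hb2).symm, (ne_one_of_order hba2).symm]
    rw [← hF, ← Fintype.card_coe F, ← Nat.card_eq_fintype_card]
    refine Nat.card_congr
      { toFun := fun v => ⟨(v.1 : G), ?_⟩
        invFun := fun x => ⟨⟨x.1, ?_⟩, ?_⟩
        left_inv := fun v => rfl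
        right_inv := fun x => rfl }
    · have hv := (h2 v.1).2 v.2
      simp only [F, Finset.mem_insert, Finset.mem_singleton]
      by_cases e1 : (v.1 : G) = 1
      · exact Or.inl e1
      by_cases e2 : (v.1 : G) = a
      · exact Or.inr (Or.inl e2)
      rcases c.three hab crit hb hb2 hba v.1.2 (order_of_mul_self (congrArg Subtype.val hv) e1) e2 with e | e
      · exact Or.inr (Or.inr (Or.inl e))
      · exact Or.inr (Or.inr (Or.inr e))
    · have hx := x.2
      simp only [F, Finset.mem_insert, Finset.mem_singleton] at hx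
      rcases hx with e | e | e | e <;> rw [e]
      exacts [one_mem _, c.mem, hb, hba1]
    · have hx := x.2
      simp only [F, Finset.mem_insert, Finset.mem_singleton] at hx
      refine (h2 _).1 (Subtype.ext ?_)
      show x.1 * x.1 = 1
      rcases hx with e | e | e | e <;> rw [e]
      exacts [one_mul 1, mul_self_of_order c.invol, mul_self_of_order hb2, mul_self_of_order hba2]
  · obtain ⟨α, -, hα⟩ := c.auto (order_of_mul_self ((h2 v).2 hv) hv1) (order_of_mul_self ((h2 w).2 hw) hw1)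
    exact ⟨α, hα⟩

end Bad

end Cfsg.Agent.RankOneCI
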